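import Groth.Agent.DelIll.K890.CechHT

/-!
# Two diagram chases in total complexes of cochains

* `exists_sub_mem`: column-wise quasi-isomorphic subcomplexes;
* `exists_dT_eq`: pro-vanishing of the rows kills cocycles.
-/

set_option autoImplicit false

universe w u

open CategoryTheory CategoryTheory.Limits TopologicalSpace Opposite

namespace K853.Lef.Chase

open Groth.Agent.Ega3B Groth.Agent.Ega3B.CombRes K890.CechHT

variable {X : TopCat.{u}} {D : Data X}
  {K : CochainComplex (Sheaf (Opens.grothendieckTopology X) AddCommGrpCat.{u}) ℕ}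

section basic

/-- the internal differential -/
noncomputable abbrev dh (D : Data X) (K : CochainComplex (Sheaf (Opens.grothendieckTopology X) AddCommGrpCat.{u}) ℕ)
    (a b : ℕ) : D.K b (K.X a).obj →+ D.K b (K.X (a + 1)).obj := D.Kmap b (K.d a (a + 1)).hom

/-- the Čech differential -/
noncomputable abbrev dv (D : Data X) (K : CochainComplex (Sheaf (Opens.grothendieckTopology X) AddCommGrpCat.{u}) ℕ)
    (a b : ℕ) : D.K b (K.X a).obj →+ D.K (b + 1) (K.X a).obj := D.δ b (K.X a).obj

theorem dh_dh (a b : ℕ) (x : D.K b (K.X a).obj) : dh D K (a + 1) b (dh D K a b x) = 0 := by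
  funext β
  have h1 : K.d a (a + 1) ≫ K.d (a + 1) (a + 1 + 1) = 0 := K.d_comp_d _ _ _
  exact congr($(h1).hom.app (op (D.W b β)) (x β))

theorem dv_dv (a b : ℕ) (x : D.K b (K.X a).obj) : dv D K a (b + 1) (dv D K a b x) = 0 := D.δ_δ b x

theorem dv_dh (a b : ℕ) (x : D.K b (K.X a).obj) : dv D K (a + 1) b (dh D K a b x) = dh D K a (b + 1) (dv D K a b x) :=
  (D.δ_naturality b (K.d a (a + 1)).hom x)

theorem T.sub_at {n : ℕ} (x y : T D K n) (a b : ℕ) (h : a + b = n) :
    (x - y).at a b h = x.at a b h - y.at a b h := rfl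

theorem T.neg_at {n : ℕ} (x : T D K n) (a b : ℕ) (h : a + b = n) : (-x).at a b h = -x.at a b h := rfl

theorem sgn (n : ℕ) : (((n + 1 + 1 : ℕ) : ℤ)).negOnePow = -(((n + 1 : ℕ) : ℤ)).negOnePow := by
  push_cast
  rw [Int.negOnePow_succ]

theorem dT_dT {n : ℕ} (x : T D K n) : dT D K (n + 1) (dT D K n x) = 0 := by
  refine T.ext fun a b h => ?_
  rw [dT_at, T.zero_at]
  cases a with
  | zero =>
    cases b with
    | zero => omega
    | succ b =>
      change (0 : D.K (b + 1) (K.X 0).obj) + _ • dv D K 0 b ((dT D K n x).at 0 b (by omega)) = 0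
      rw [dT_at, zero_add]
      cases b with
      | zero => omega
      | succ b =>
        change _ • dv D K 0 (b + 1) (0 + _ • dv D K 0 b (x.at 0 b (by omega))) = 0
        rw [zero_add, Units.smul_def, Units.smul_def, map_zsmul, dv_dv, smul_zero, smul_zero]
  | succ a =>
    cases b with
    | zero =>
      change dh D K a 0 ((dT D K n x).at a 0 (by omega)) + _ • (0 : D.K 0 (K.X (a + 1)).obj) = 0
      rw [dT_at, smul_zero, add_zero]
      cases a with
      | zero => omega
      | succ a =>
        change dh D K (a + 1) 0 (dh D K a 0 (x.at a 0 (by omega)) + _ • (0 : D.K 0 (K.X (a + 1)).obj)) = 0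
        rw [smul_zero, add_zero, dh_dh]
    | succ b =>
      change dh D K a (b + 1) ((dT D K n x).at a (b + 1) (by omega)) +
        _ • dv D K (a + 1) b ((dT D K n x).at (a + 1) b (by omega)) = 0
      rw [dT_at, dT_at, sgn, map_add, map_add]
      have h1 : dh D K a (b + 1) (hor x a (b + 1) (by omega)) = 0 := by
        cases a with
        | zero => exact map_zero _
        | succ a => exact dh_dh a (b + 1) _
      have h2 : dv D K (a + 1) b (ver x (a + 1) b (by omega)) = 0 := by
        cases b with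
        | zero => exact map_zero _
        | succ b => exact dv_dv (a + 1) b _
      have h3 : dh D K a (b + 1) ((((n + 1 : ℕ) : ℤ)).negOnePow • ver x a (b + 1) (by omega)) =
          (((n + 1 : ℕ) : ℤ)).negOnePow • dh D K a (b + 1) (dv D K a b (x.at a b (by omega))) := by
        rw [Units.smul_def, map_zsmul, ← Units.smul_def]
        rfl
      have h4 : dv D K (a + 1) b ((((n + 1 : ℕ) : ℤ)).negOnePow • ver x (a + 1) b (by omega)) = 0 := by
        rw [Units.smul_def, map_zsmul, h2, smul_zero]
      have h5 : dv D K (a + 1) b (hor x (a + 1) b (by omega)) = dh D K a (b + 1) (dv D K a b (x.at a b (by omega))) :=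
        dv_dh a b _
      rw [h1, h3, h4, h5, zero_add, add_zero, Units.neg_smul, add_neg_cancel]

/-- A cochain with one component. -/
noncomputable def single {n : ℕ} (a b : ℕ) (h : a + b = n) (w : D.K b (K.X a).obj) : T D K n :=
  Pi.single (M := fun p : Ix n => D.K p.1.2 (K.X p.1.1).obj) (⟨(a, b), h⟩ : Ix n) w

theorem single_at {n : ℕ} (a b : ℕ) (h : a + b = n) (w : D.K b (K.X a).obj) (h' : a + b = n) :
    (single a b h w).at a b h' = w :=
  Pi.single_eq_same (M := fun p : Ix n => D.K p.1.2 (K.X p.1.1).obj) (⟨(a, b), h⟩ : Ix n) w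

theorem single_at_of_ne {n : ℕ} (a b : ℕ) (h : a + b = n) (w : D.K b (K.X a).obj) (a' b' : ℕ) (h' : a' + b' = n)
    (hne : b' ≠ b) : (single a b h w).at a' b' h' = 0 := by
  have h1 : (⟨(a', b'), h'⟩ : Ix n) ≠ ⟨(a, b), h⟩ := by
    intro h2
    exact hne (congrArg (fun p : Ix n => p.1.2) h2)
  exact Pi.single_eq_of_ne (M := fun p : Ix n => D.K p.1.2 (K.X p.1.1).obj) h1 w

theorem single_at_of_ne' {n : ℕ} (a b : ℕ) (h : a + b = n) (w : D.K b (K.X a).obj) (a' b' : ℕ) (h' : a' + b' = n)
    (hne : a' ≠ a) : (single a b h w).at a' b' h' = 0 :=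
  single_at_of_ne a b h w a' b' h' (by omega)

theorem dT_single_h {n : ℕ} (a b : ℕ) (h : a + b = n) (w : D.K b (K.X a).obj) (h' : a + 1 + b = n + 1) :
    (dT D K n (single a b h w)).at (a + 1) b h' = dh D K a b w := by
  rw [dT_at]
  have h1 : ver (single (D := D) (K := K) a b h w) (a + 1) b h' = 0 := by
    cases b with
    | zero => rfl
    | succ b =>
      change dv D K (a + 1) b ((single a (b + 1) h w).at (a + 1) b (by omega)) = 0
      rw [single_at_of_ne _ _ _ _ _ _ _ (by omega), map_zero]
  rw [h1, smul_zero, add_zero]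
  change dh D K a b ((single a b h w).at a b (by omega)) = _
  rw [single_at]

theorem dT_single_v {n : ℕ} (a b : ℕ) (h : a + b = n) (w : D.K b (K.X a).obj) (h' : a + (b + 1) = n + 1) :
    (dT D K n (single a b h w)).at a (b + 1) h' = (((n + 1 : ℕ) : ℤ)).negOnePow • dv D K a b w := by
  rw [dT_at]
  have h1 : hor (single (D := D) (K := K) a b h w) a (b + 1) h' = 0 := by
    cases a with
    | zero => rfl
    | succ a =>
      change dh D K a (b + 1) ((single (a + 1) b h w).at a (b + 1) (by omega)) = 0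
      rw [single_at_of_ne _ _ _ _ _ _ _ (by omega), map_zero]
  rw [h1, zero_add]
  change _ • dv D K a b ((single a b h w).at a b (by omega)) = _
  rw [single_at]

theorem dT_single_of_ne {n : ℕ} (a b : ℕ) (h : a + b = n) (w : D.K b (K.X a).obj) (a' b' : ℕ)
    (h' : a' + b' = n + 1) (h1 : b' ≠ b) (h2 : b' ≠ b + 1) : (dT D K n (single a b h w)).at a' b' h' = 0 := by
  rw [dT_at]
  have h3 : hor (single (D := D) (K := K) a b h w) a' b' h' = 0 := by
    cases a' with
    | zero => rfl
    | succ a' =>
      change dh D K a' b' ((single a b h w).at a' b' (by omega)) = 0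
      rw [single_at_of_ne _ _ _ _ _ _ _ (by omega), map_zero]
  have h4 : ver (single (D := D) (K := K) a b h w) a' b' h' = 0 := by
    cases b' with
    | zero => rfl
    | succ b' =>
      change dv D K a' b' ((single a b h w).at a' b' (by omega)) = 0
      rw [single_at_of_ne _ _ _ _ _ _ _ (by omega), map_zero]
  rw [h3, h4, smul_zero, add_zero]

end basic

section sub

variable (F : ∀ a b : ℕ, AddSubgroup (D.K b (K.X a).obj))

/-- all components lie in the family of subgroups -/
def In {n : ℕ} (x : T D K n) : Prop := ∀ a b h, x.at a b h ∈ F a b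

variable {F}

theorem In.add {n : ℕ} {x y : T D K n} (hx : In F x) (hy : In F y) : In F (x + y) := fun a b h =>
  (F a b).add_mem (hx a b h) (hy a b h)

theorem In.sub {n : ℕ} {x y : T D K n} (hx : In F x) (hy : In F y) : In F (x - y) := fun a b h =>
  (F a b).sub_mem (hx a b h) (hy a b h)

theorem In.zero {n : ℕ} : In F (0 : T D K n) := fun a b _ => (F a b).zero_mem

theorem In.single {n : ℕ} (a b : ℕ) (h : a + b = n) {w : D.K b (K.X a).obj} (hw : w ∈ F a b) :
    In F (single a b h w) := by
  intro a' b' h'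
  by_cases hb : b' = b
  · subst hb
    obtain rfl : a' = a := by omega
    rw [single_at]
    exact hw
  · rw [single_at_of_ne _ _ _ _ _ _ _ hb]
    exact (F a' b').zero_mem

theorem In.dT {n : ℕ} (hh : ∀ a b x, x ∈ F a b → dh D K a b x ∈ F (a + 1) b)
    (hv : ∀ a b x, x ∈ F a b → dv D K a b x ∈ F a (b + 1)) {x : T D K n} (hx : In F x) :
    In F (dT D K n x) := by
  intro a b h
  rw [dT_at]
  refine (F a b).add_mem ?_ ?_
  · cases a with
    | zero => exact (F 0 b).zero_mem
    | succ a => exact hh a b _ (hx a b _)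
  · rw [Units.smul_def]
    refine (F a b).zsmul_mem ?_ _
    cases b with
    | zero => exact (F a 0).zero_mem
    | succ b => exact hv a b _ (hx a b _)

end sub

section chase1

variable (F L : ∀ a b : ℕ, AddSubgroup (D.K b (K.X a).obj)) (N : ℕ)
  (Fh : ∀ a b x, x ∈ F a b → dh D K a b x ∈ F (a + 1) b)
  (Fv : ∀ a b x, x ∈ F a b → dv D K a b x ∈ F a (b + 1))
  (Lv : ∀ a b x, x ∈ L a b → dv D K a b x ∈ L a (b + 1))
  (h0 : ∀ b x, x ∈ F 0 b → dh D K 0 b x ∈ L 1 b → x ∈ L 0 b)
  (h1 : ∀ a b x, a + 1 ≤ N → x ∈ F (a + 1) b → dh D K (a + 1) b x ∈ L (a + 2) b →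
    ∃ u ∈ F a b, x - dh D K a b u ∈ L (a + 1) b)

include Fh Fv Lv h0 h1 in
/-- A cochain of `F` with boundary in `L` is in `L` up to a boundary. -/
theorem exists_sub_mem (n : ℕ) (hn : n + 1 ≤ N) (z : T D K (n + 1)) (hz : In F z)
    (hdz : In L (dT D K (n + 1) z)) : ∃ u : T D K n, In F u ∧ In L (z - dT D K n u) := by
  have key : ∀ j : ℕ, ∃ u : T D K n, In F u ∧ ∀ a b h, b < j → (z - dT D K n u).at a b h ∈ L a b := by
    intro j
    induction j with
    | zero => exact ⟨0, In.zero, fun a b h hb => absurd hb (by omega)⟩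
    | succ j ih =>
      obtain ⟨u, hu, hu'⟩ := ih
      by_cases hj : n + 1 < j
      · exact ⟨u, hu, fun a b h hb => hu' a b h (by omega)⟩
      obtain ⟨a, ha⟩ : ∃ a, a + j = n + 1 := ⟨n + 1 - j, by omega⟩
      have hF : In F (z - dT D K n u) := hz.sub (hu.dT Fh Fv)
      have hL : In L (dT D K (n + 1) (z - dT D K n u)) := by
        rw [map_sub, dT_dT, sub_zero]; exact hdz
      have h2 : dh D K a j ((z - dT D K n u).at a j ha) ∈ L (a + 1) j := by
        have h3 := hL (a + 1) j (by omega)
        rw [dT_at] at h3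
        have h4 : ver (z - dT D K n u) (a + 1) j (by omega) ∈ L (a + 1) j := by
          cases j with
          | zero => exact (L (a + 1) 0).zero_mem
          | succ j => exact Lv (a + 1) j _ (hu' (a + 1) j (by omega) (by omega))
        have h5 := (L (a + 1) j).sub_mem h3 ((L (a + 1) j).zsmul_mem h4 ((((n + 1 + 1 : ℕ) : ℤ)).negOnePow : ℤ))
        rw [← Units.smul_def, add_sub_cancel_right] at h5
        exact h5
      cases a with
      | zero =>
        refine ⟨u, hu, fun a' b' h' hb' => ?_⟩
        by_cases hb : b' < j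
        · exact hu' a' b' h' hb
        · obtain rfl : b' = j := by omega
          obtain rfl : a' = 0 := by omega
          exact h0 b' _ (hF 0 b' ha) h2
      | succ a =>
        obtain ⟨w, hw, hw'⟩ := h1 a j _ (by omega) (hF (a + 1) j ha) h2
        refine ⟨u + single a j (by omega) w, hu.add (In.single _ _ _ hw), fun a' b' h' hb' => ?_⟩
        rw [map_add, ← sub_sub, T.sub_at]
        by_cases hb : b' < j
        · rw [dT_single_of_ne _ _ _ _ _ _ _ (by omega) (by omega), sub_zero]
          exact hu' a' b' h' hb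
        · obtain rfl : b' = j := by omega
          obtain rfl : a' = a + 1 := by omega
          rw [dT_single_h]
          exact hw'
  obtain ⟨u, hu, hu'⟩ := key (n + 2)
  exact ⟨u, hu, fun a b h => hu' a b h (by omega)⟩

end chase1

section chase2

variable (L : ℕ → ∀ a b : ℕ, AddSubgroup (D.K b (K.X a).obj))
  (Lanti : ∀ m m' a b, m ≤ m' → L m' a b ≤ L m a b)
  (Lh : ∀ m a b x, x ∈ L m a b → dh D K a b x ∈ L m (a + 1) b)
  (Lv : ∀ m a b x, x ∈ L m a b → dv D K a b x ∈ L m a (b + 1))

/-- boundaries of the row -/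
def IsRowB (m : ℕ) (a : ℕ) : (b : ℕ) → D.K b (K.X a).obj → Prop
  | 0, x => x = 0
  | b + 1, x => ∃ y ∈ L m a b, dv D K a b y = x

include Lanti Lh Lv in
/-- Pro-vanishing of the rows kills cocycles. -/
theorem exists_dT_eq (n : ℕ)
    (hpv : ∀ a b, a + b = n + 1 → ∀ m, ∃ m', m ≤ m' ∧ ∀ x ∈ L m' a b, dv D K a b x = 0 → IsRowB L m a b x) (m : ℕ) :
    ∃ m', m ≤ m' ∧ ∀ z : T D K (n + 1), In (L m') z → dT D K (n + 1) z = 0 →
      ∃ y : T D K n, In (L m) y ∧ dT D K n y = z := by
  have key : ∀ j m : ℕ, ∃ m', m ≤ m' ∧ ∀ z : T D K (n + 1), In (L m') z → dT D K (n + 1) z = 0 →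
      ∃ y : T D K n, In (L m) y ∧ ∀ a b h, a < j → (z - dT D K n y).at a b h = 0 := by
    intro j
    induction j with
    | zero => exact fun m => ⟨m, le_rfl, fun z _ _ => ⟨0, In.zero, fun a b h ha => absurd ha (by omega)⟩⟩
    | succ j ih =>
      intro m
      by_cases hj : n + 1 < j
      · obtain ⟨m', hm, h'⟩ := ih m
        refine ⟨m', hm, fun z hz hdz => ?_⟩
        obtain ⟨y, hy, hy'⟩ := h' z hz hdz
        exact ⟨y, hy, fun a b h ha => hy' a b h (by omega)⟩
      obtain ⟨b, hb⟩ : ∃ b, j + b = n + 1 := ⟨n + 1 - j, by omega⟩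
      obtain ⟨m₁, hm₁, h₁⟩ := hpv j b hb m
      obtain ⟨m', hm', h'⟩ := ih m₁
      refine ⟨m', hm₁.trans hm', fun z hz hdz => ?_⟩
      obtain ⟨y, hy, hy'⟩ := h' z hz hdz
      have hL : In (L m₁) (z - dT D K n y) :=
        In.sub (fun a b h => Lanti m₁ m' a b hm' (hz a b h)) (hy.dT (Lh m₁) (Lv m₁))
      have hd : dT D K (n + 1) (z - dT D K n y) = 0 := by rw [map_sub, dT_dT, sub_zero, hdz]
      have h2 : dv D K j b ((z - dT D K n y).at j b hb) = 0 := by
        have h3 : (dT D K (n + 1) (z - dT D K n y)).at j (b + 1) (by omega) = 0 := by rw [hd]; rfl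
        rw [dT_at] at h3
        have h4 : hor (z - dT D K n y) j (b + 1) (by omega) = 0 := by
          cases j with
          | zero => rfl
          | succ j =>
            change dh D K j (b + 1) ((z - dT D K n y).at j (b + 1) (by omega)) = 0
            rw [hy' j (b + 1) (by omega) (by omega), map_zero]
        rw [h4, zero_add] at h3
        have h5 := congrArg (fun t => (((n + 1 + 1 : ℕ) : ℤ)).negOnePow • t) h3
        simp only [smul_zero, smul_smul, Int.units_mul_self, one_smul] at h5
        exact h5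
      have h3 := h₁ _ (hL j b hb) h2
      have hy1 : In (L m) y := fun a b h => Lanti m m₁ a b hm₁ (hy a b h)
      cases b with
      | zero =>
        refine ⟨y, hy1, fun a' b' h' ha' => ?_⟩
        by_cases ha : a' < j
        · exact hy' a' b' h' ha
        · obtain rfl : a' = j := by omega
          obtain rfl : b' = 0 := by omega
          exact h3
      | succ b =>
        obtain ⟨w, hw, hw'⟩ := h3
        have hw1 : (((n + 1 : ℕ) : ℤ)).negOnePow • w ∈ L m j b := by
          rw [Units.smul_def]; exact (L m j b).zsmul_mem hw _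
        refine ⟨y + single j b (by omega) ((((n + 1 : ℕ) : ℤ)).negOnePow • w),
          hy1.add (In.single _ _ _ hw1), fun a' b' h' ha' => ?_⟩
        rw [map_add, ← sub_sub, T.sub_at]
        by_cases ha : a' < j
        · rw [dT_single_of_ne _ _ _ _ _ _ _ (by omega) (by omega), sub_zero]
          exact hy' a' b' h' ha
        · obtain rfl : a' = j := by omega
          obtain rfl : b' = b + 1 := by omega
          rw [dT_single_v, Units.smul_def ((((n + 1 : ℕ) : ℤ)).negOnePow) w, map_zsmul, hw', ← Units.smul_def,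
            smul_smul, Int.units_mul_self, one_smul, sub_self]
  obtain ⟨m', hm, h'⟩ := key (n + 2) m
  refine ⟨m', hm, fun z hz hdz => ?_⟩
  obtain ⟨y, hy, hy'⟩ := h' z hz hdz
  refine ⟨y, hy, ?_⟩
  have : z - dT D K n y = 0 := T.ext fun a b h => hy' a b h (by omega)
  exact (sub_eq_zero.1 this).symm

end chase2

end K853.Lef.Chase
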