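import Mathlib.Algebra.Group.Subgroup.Ker
import Mathlib.Algebra.Group.Subgroup.Basic
import Mathlib.Tactic.Abel

/-!
# The long exact sequence of a surjection of complexes with acyclic kernel in low degrees
-/

set_option autoImplicit false

namespace K853.Lef.Quot

variable {T T' : ℕ → Type*} [∀ n, AddCommGroup (T n)] [∀ n, AddCommGroup (T' n)]
  (d : ∀ n, T n →+ T (n + 1)) (d' : ∀ n, T' n →+ T' (n + 1))

/-- boundaries (only `0` in degree `0`) -/
def B : (n : ℕ) → T n → Prop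
  | 0, x => x = 0
  | n + 1, x => ∃ y : T n, d n y = x

variable {d d'} (r : ∀ n, T n →+ T' n) (hr : ∀ n x, r (n + 1) (d n x) = d' n (r n x))

/-- the map on cocycles -/
def rZ (n : ℕ) : (d n).ker →+ (d' n).ker where
  toFun x := ⟨r n x.1, by rw [AddMonoidHom.mem_ker, ← hr, x.2, map_zero]⟩
  map_zero' := Subtype.ext (map_zero _)
  map_add' x y := Subtype.ext (map_add (r n) x.1 y.1)

variable (dd : ∀ n x, d (n + 1) (d n x) = 0) (hs : ∀ n, Function.Surjective (r n)) (N : ℕ)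
  (h0 : ∀ x : T 0, d 0 x = 0 → r 0 x = 0 → x = 0)
  (h1 : ∀ n, n + 1 ≤ N → ∀ x : T (n + 1), d (n + 1) x = 0 → r (n + 1) x = 0 → ∃ y : T n, r n y = 0 ∧ d n y = x)

include hr dd hs h0 h1 in
theorem B_of_B (n : ℕ) (hn : n ≤ N) (x : T n) (hx : d n x = 0) (h : B d' n (r n x)) : B d n x := by
  cases n with
  | zero => exact h0 x hx h
  | succ n =>
    obtain ⟨w, hw⟩ := h
    obtain ⟨w, rfl⟩ := hs n w
    obtain ⟨y, -, hy⟩ := h1 n hn (x - d n w) (by rw [map_sub, dd, hx, sub_zero])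
      (by rw [map_sub, hr, hw, sub_self])
    exact ⟨y + w, by rw [map_add, hy, sub_add_cancel]⟩

include hr h1 hs dd in
theorem exists_lift (n : ℕ) (hn : n + 1 ≤ N) (x : T' n) (hx : d' n x = 0) : ∃ y : T n, d n y = 0 ∧ r n y = x := by
  obtain ⟨w, rfl⟩ := hs n x
  obtain ⟨y, hy, hy'⟩ := h1 n hn (d n w) (dd n w) (by rw [hr, hx])
  exact ⟨w - y, by rw [map_sub, hy', sub_self], by rw [map_sub, hy, sub_zero]⟩

include dd hs h0 h1 in
/-- **The map on cohomology.** -/
theorem exists_hom (n : ℕ) (hn : n ≤ N) {H H' : Type*} [AddCommGroup H] [AddCommGroup H'] (cls : (d n).ker →+ H)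
    (cls' : (d' n).ker →+ H') (hcs : Function.Surjective cls) (hcs' : Function.Surjective cls')
    (hc : ∀ x, cls x = 0 ↔ B d n x.1) (hc' : ∀ x, cls' x = 0 ↔ B d' n x.1) :
    ∃ φ : H →+ H', (∀ x, φ (cls x) = cls' (rZ r hr n x)) ∧ Function.Injective φ ∧
      (n + 1 ≤ N → Function.Surjective φ) := by
  have hB : ∀ x, B d n x → B d' n (r n x) := by
    intro x hx
    cases n with
    | zero =>
      have h2 : x = 0 := hx
      rw [h2]
      exact map_zero _
    | succ n =>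
      obtain ⟨y, hy⟩ := hx
      exact ⟨r n y, by rw [← hr, hy]⟩
  have hker : cls.ker ≤ (cls'.comp (rZ r hr n)).ker := by
    intro x hx
    rw [AddMonoidHom.mem_ker, AddMonoidHom.comp_apply, hc']
    exact hB _ ((hc x).1 hx)
  let φ : H →+ H' := cls.liftOfSurjective hcs ⟨cls'.comp (rZ r hr n), hker⟩
  have hφ : ∀ x, φ (cls x) = cls' (rZ r hr n x) := fun x =>
    AddMonoidHom.liftOfRightInverse_comp_apply cls _ (Function.rightInverse_surjInv hcs)
      ⟨cls'.comp (rZ r hr n), hker⟩ x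
  refine ⟨φ, hφ, ?_, fun hn' => ?_⟩
  · rw [injective_iff_map_eq_zero]
    intro x hx
    obtain ⟨x, rfl⟩ := hcs x
    rw [hφ, hc'] at hx
    rw [hc]
    exact B_of_B r hr dd hs N h0 h1 n hn x.1 x.2 hx
  · intro y
    obtain ⟨y, rfl⟩ := hcs' y
    obtain ⟨x, hx, hxy⟩ := exists_lift r hr dd hs N h1 n hn' y.1 y.2
    refine ⟨cls ⟨x, hx⟩, ?_⟩
    rw [hφ]
    exact congrArg cls' (Subtype.ext hxy)

end K853.Lef.Quot
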