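import Groth.Agent.DeRhamSh.K853.Lef.Restr
import Groth.Agent.DeRhamSh.K853.Lef.Chase
import Groth.Agent.DeRhamSh.K853.Lef.Quot

/-!
# The restriction of forms on total complexes of Čech cochains
-/

set_option autoImplicit false

universe w u

open CategoryTheory CategoryTheory.Limits AlgebraicGeometry Opposite TopologicalSpace exteriorPower

namespace K853.Lef.CechLef

open Groth.Agent.Lefpen.H721.OmegaSec Groth.Agent.Lefpen.H721.OmegaPow Groth.Agent.CurvesB.OmegaStalkDict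
open Groth.Agent.Sga67.Sec K853.CxAff K853.Lef.Model K853.Lef.Restr K853.Lef.Chase
open Groth.Agent.Ega3B Groth.Agent.Ega3B.CombRes K890.CechHT

/-- The inverse image of a combinatorial datum. -/
def comap {X Y : Scheme.{u}} (ι : Y ⟶ X) (D : Data X.toTopCat) : Data Y.toTopCat where
  B := D.B
  W n b := (ι ⁻¹ᵁ (D.W n b : X.Opens) : Y.Opens)
  m := D.m
  le n b b' h := preimage_le ι (D.le n b b' h)
  e := D.e
  mm := D.mm
  em := D.em

variable {k : Type u} [Field k] {X Y : Scheme.{u}} {g : X ⟶ Spec (CommRingCat.of k)} (ι : Y ⟶ X)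
  [IsClosedImmersion ι] [QuasiSeparated g] [QuasiSeparated (ι ≫ g)]
  {DX : DeRhamSh.OmegaCx g} {DY : DeRhamSh.OmegaCx (ι ≫ g)} (MX : Mod g DX) (MY : Mod (ι ≫ g) DY)

/-- sections of `K^p` as sections of the module -/
noncomputable def toS {S : Scheme.{u}} {f : X ⟶ S} {Ω' : X.Modules} {δ : OmegaSh.Der f Ω'} (D : DeRhamSh.Cx f Ω' δ)
    (p : ℕ) (V : X.Opens) : (D.K.X p).obj.obj (op V) ≃+ Γ(D.term p, V) where
  toFun := (D.iso p).hom.hom.app (op V)
  invFun := (D.iso p).inv.hom.app (op V)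
  left_inv x := congr($(((D.iso p).hom_inv_id)).hom.app (op V) x)
  right_inv x := congr($(((D.iso p).inv_hom_id)).hom.app (op V) x)
  map_add' x y := map_add _ x y

theorem toS_d {S : Scheme.{u}} {f : X ⟶ S} {Ω' : X.Modules} {δ : OmegaSh.Der f Ω'} (D : DeRhamSh.Cx f Ω' δ)
    (p : ℕ) (V : X.Opens) (x : (D.K.X p).obj.obj (op V)) :
    toS D (p + 1) V ((D.K.d p (p + 1)).hom.app (op V) x) = dSec D V p (toS D p V x) := by
  rw [dSec_apply]
  exact congrArg (fun t => (D.iso (p + 1)).hom.hom.app (op V) ((D.K.d p (p + 1)).hom.app (op V) t))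
    ((toS D p V).symm_apply_apply x).symm

theorem toS_res {S : Scheme.{u}} {f : X ⟶ S} {Ω' : X.Modules} {δ : OmegaSh.Der f Ω'} (D : DeRhamSh.Cx f Ω' δ)
    (p : ℕ) {V V' : X.Opens} (h : V' ≤ V) (x : (D.K.X p).obj.obj (op V)) :
    toS D p V' ((D.K.X p).obj.map (homOfLE h).op x) = (D.term p).presheaf.map (homOfLE h).op (toS D p V x) :=
  ConcreteCategory.congr_hom ((D.iso p).hom.hom.naturality (homOfLE h).op) x

theorem toS_scalar {f : X ⟶ Spec (CommRingCat.of k)} {Ω' : X.Modules} {δ : OmegaSh.Der f Ω'}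
    (D : DeRhamSh.Cx f Ω' δ) (p : ℕ) (V : X.Opens) (a : k) (x : (D.K.X p).obj.obj (op V)) :
    toS D p V ((KLinDR.scalarEnd (Coh.toGlobal f) D.term D.iso a p).hom.app (op V) x) =
      (secHom f V a) • toS D p V x := by
  have h1 : toS D p V ((KLinDR.scalarEnd (Coh.toGlobal f) D.term D.iso a p).hom.app (op V) x) =
      (Coh.smulAb (D.term p) (Coh.toGlobal f a)).hom.app (op V) (toS D p V x) :=
    (toS D p V).apply_symm_apply _
  rw [h1]
  rfl

/-- The restriction of forms, on sections of the complexes. -/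
noncomputable def rK (p : ℕ) (W : X.affineOpens) :
    (DX.K.X p).obj.obj (op W.1) →+ (DY.K.X p).obj.obj (op (ι ⁻¹ᵁ W.1)) :=
  (toS DY p (ι ⁻¹ᵁ W.1)).symm.toAddMonoidHom.comp ((rS ι MX MY p W).comp (toS DX p W.1).toAddMonoidHom)

theorem toS_rK (p : ℕ) (W : X.affineOpens) (x : (DX.K.X p).obj.obj (op W.1)) :
    toS DY p (ι ⁻¹ᵁ W.1) (rK ι MX MY p W x) = rS ι MX MY p W (toS DX p W.1 x) :=
  (toS DY p (ι ⁻¹ᵁ W.1)).apply_symm_apply _

theorem rK_eq_zero_iff (p : ℕ) (W : X.affineOpens) (x : (DX.K.X p).obj.obj (op W.1)) :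
    rK ι MX MY p W x = 0 ↔ rS ι MX MY p W (toS DX p W.1 x) = 0 := by
  rw [← toS_rK]
  exact (toS DY p (ι ⁻¹ᵁ W.1)).map_eq_zero_iff.symm

theorem rK_surjective (p : ℕ) (W : X.affineOpens) : Function.Surjective (rK ι MX MY p W) :=
  (toS DY p (ι ⁻¹ᵁ W.1)).symm.surjective.comp ((rS_surjective ι MX MY p W).comp (toS DX p W.1).surjective)

theorem rK_d (p : ℕ) (W : X.affineOpens) (x : (DX.K.X p).obj.obj (op W.1)) :
    rK ι MX MY (p + 1) W ((DX.K.d p (p + 1)).hom.app (op W.1) x) =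
      (DY.K.d p (p + 1)).hom.app (op (ι ⁻¹ᵁ W.1)) (rK ι MX MY p W x) := by
  apply (toS DY (p + 1) (ι ⁻¹ᵁ W.1)).injective
  rw [toS_rK, toS_d, toS_d, toS_rK, rS_comm]

theorem rK_res (p : ℕ) (W W' : X.affineOpens) (h : W'.1 ≤ W.1) (x : (DX.K.X p).obj.obj (op W.1)) :
    rK ι MX MY p W' ((DX.K.X p).obj.map (homOfLE h).op x) =
      (DY.K.X p).obj.map (homOfLE (preimage_le ι h)).op (rK ι MX MY p W x) := by
  apply (toS DY p (ι ⁻¹ᵁ W'.1)).injective
  rw [toS_rK, toS_res, toS_res, toS_rK, rS_res]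

theorem rK_scalar (p : ℕ) (W : X.affineOpens) (a : k) (x : (DX.K.X p).obj.obj (op W.1)) :
    rK ι MX MY p W ((KLinDR.scalarEnd (Coh.toGlobal g) DX.term DX.iso a p).hom.app (op W.1) x) =
      (KLinDR.scalarEnd (Coh.toGlobal (ι ≫ g)) DY.term DY.iso a p).hom.app (op (ι ⁻¹ᵁ W.1)) (rK ι MX MY p W x) := by
  apply (toS DY p (ι ⁻¹ᵁ W.1)).injective
  rw [toS_rK, toS_scalar, toS_scalar, toS_rK, rS_smul_base]

section cech

variable (D : Data X.toTopCat) (hW : ∀ n b, IsAffineOpen (X := X) (D.W n b))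

/-- an open of the datum, as an affine open -/
def WA (b : ℕ) (β : D.B b) : X.affineOpens := ⟨D.W b β, hW b β⟩

/-- The restriction of forms on cochains. -/
noncomputable def rC (a b : ℕ) : D.K b (DX.K.X a).obj →+ (comap ι D).K b (DY.K.X a).obj where
  toFun x β := rK ι MX MY a (WA D hW b β) (x β)
  map_zero' := by funext β; exact map_zero _
  map_add' x y := by funext β; exact map_add _ _ _

theorem rC_apply (a b : ℕ) (x : D.K b (DX.K.X a).obj) (β : D.B b) :
    rC ι MX MY D hW a b x β = rK ι MX MY a (WA D hW b β) (x β) := rfl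

theorem rC_surjective (a b : ℕ) : Function.Surjective (rC ι MX MY D hW a b) := by
  intro y
  choose x hx using fun β => rK_surjective ι MX MY a (WA D hW b β) (y β)
  exact ⟨x, funext fun β => hx β⟩

theorem rC_dh (a b : ℕ) (x : D.K b (DX.K.X a).obj) :
    rC ι MX MY D hW (a + 1) b (dh D DX.K a b x) = dh (comap ι D) DY.K a b (rC ι MX MY D hW a b x) :=
  funext fun β => rK_d ι MX MY a (WA D hW b β) (x β)

theorem rC_scalar (a b : ℕ) (c : k) (x : D.K b (DX.K.X a).obj) :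
    rC ι MX MY D hW a b (D.Kmap b (KLinDR.scalarEnd (Coh.toGlobal g) DX.term DX.iso c a).hom x) =
      (comap ι D).Kmap b (KLinDR.scalarEnd (Coh.toGlobal (ι ≫ g)) DY.term DY.iso c a).hom (rC ι MX MY D hW a b x) :=
  funext fun β => rK_scalar ι MX MY a (WA D hW b β) c (x β)

theorem rC_dv (a b : ℕ) (x : D.K b (DX.K.X a).obj) :
    rC ι MX MY D hW a (b + 1) (dv D DX.K a b x) = dv (comap ι D) DY.K a b (rC ι MX MY D hW a b x) := by
  classical
  refine funext fun (β : D.B (b + 1)) => ?_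
  have h1 := Data.δ_apply D b x β
  have h2 := Data.δ_apply (comap ι D) b (rC ι MX MY D hW a b x) β
  refine (congrArg (rK ι MX MY a (WA D hW (b + 1) β)) h1).trans (Eq.trans ?_ h2.symm)
  refine (map_sum (rK ι MX MY a (WA D hW (b + 1) β)) _ _).trans ?_
  refine Finset.sum_congr rfl fun (β' : D.B b) _ => ?_
  by_cases h : D.m b β β' = 0
  · have h3 : (comap ι D).m b β β' = 0 := h
    have h4 : ∀ (y : (DX.K.X a).obj.obj (op (D.W (b + 1) β))), D.m b β β' • y = 0 := fun y => by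
      rw [h, zero_smul]
    have h5 : ∀ (y : (DY.K.X a).obj.obj (op ((comap ι D).W (b + 1) β))), (comap ι D).m b β β' • y = 0 := fun y => by
      rw [h3, zero_smul]
    simp only [h4, h5, dite_eq_ite, ite_self]
    exact map_zero _
  · have h1 := D.le b β β' h
    have h2 : (comap ι D).W (b + 1) β ≤ (comap ι D).W b β' := (comap ι D).le b β β' h
    rw [dif_pos h1, dif_pos h2]
    refine (map_zsmul (rK ι MX MY a (WA D hW (b + 1) β)) _ _).trans ?_
    exact congrArg (D.m b β β' • ·) (rK_res ι MX MY a (WA D hW b β') (WA D hW (b + 1) β) h1 (x β'))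

end cech

end K853.Lef.CechLef
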