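import Groth.Agent.DeRham.K852.Basic
import Mathlib.Algebra.Polynomial.Div
import Mathlib.LinearAlgebra.Dimension.Finite

/-!
# The Euler operator along an ideal

`I` an ideal of `A`, `φ : M → A` with values in `I` and `φ (δ x) = x` modulo `I ^ 2` for `x ∈ I`.  In characteristic
zero the Lie derivative along `φ` is invertible on `G p / I ^ N ⋀^p`, `G p = I ⋀^p + δI ∧ ⋀^(p-1)`, so that
the inclusion of `I ^ (N - p) ⋀^p` in `G p` is a quasi-isomorphism.
-/

set_option autoImplicit false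
set_option linter.unusedSectionVars false
universe u v

namespace K853.Lef.Euler

open K852.DR exteriorPower

section Good

variable {k : Type*} [Field k] {V : Type*} [AddCommGroup V] [Module k V] (T : V →ₗ[k] V) (W : Submodule k V)

/-- Some polynomial in `T` with nonzero constant coefficient sends the vector to `W`. -/
def Good (w : V) : Prop := ∃ Q : Polynomial k, Q.coeff 0 ≠ 0 ∧ Polynomial.aeval T Q w ∈ W

variable {T W}

theorem aeval_mem (hW : ∀ w ∈ W, T w ∈ W) (Q : Polynomial k) {w : V} (hw : w ∈ W) : Polynomial.aeval T Q w ∈ W := by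
  induction Q using Polynomial.induction_on' with
  | add p q hp hq => rw [map_add, LinearMap.add_apply]; exact W.add_mem hp hq
  | monomial n a =>
    rw [Polynomial.aeval_monomial, Module.End.mul_apply, Module.algebraMap_end_apply]
    refine W.smul_mem a ?_
    induction n with
    | zero => rw [pow_zero]; exact hw
    | succ n ih => rw [pow_succ', Module.End.mul_apply]; exact hW _ ih

theorem Good.of_mem {w : V} (hw : w ∈ W) : Good T W w := ⟨1, by simp, by simpa using hw⟩

theorem Good.of_aeval {w : V} (Q : Polynomial k) (hQ : Q.coeff 0 ≠ 0) (h : Good T W (Polynomial.aeval T Q w)) :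
    Good T W w := by
  obtain ⟨P, hP, h1⟩ := h
  refine ⟨P * Q, ?_, ?_⟩
  · rw [Polynomial.mul_coeff_zero]; exact mul_ne_zero hP hQ
  · rw [map_mul, Module.End.mul_apply]; exact h1

theorem Good.add (hW : ∀ w ∈ W, T w ∈ W) {w w' : V} (h : Good T W w) (h' : Good T W w') : Good T W (w + w') := by
  obtain ⟨P, hP, h1⟩ := h
  obtain ⟨Q, hQ, h2⟩ := h'
  refine ⟨P * Q, ?_, ?_⟩
  · rw [Polynomial.mul_coeff_zero]; exact mul_ne_zero hP hQ
  · rw [map_add]
    refine W.add_mem ?_ ?_
    · rw [mul_comm, map_mul, Module.End.mul_apply]; exact aeval_mem hW Q h1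
    · rw [map_mul, Module.End.mul_apply]; exact aeval_mem hW P h2

theorem Good.of_eigen {w : V} {c : k} (hc : c ≠ 0) (h : Good T W (T w - c • w)) : Good T W w := by
  refine Good.of_aeval (Polynomial.X - Polynomial.C c) ?_ ?_
  · rw [Polynomial.coeff_sub, Polynomial.coeff_X_zero, Polynomial.coeff_C_zero, zero_sub]
    exact neg_ne_zero.2 hc
  · rw [map_sub, Polynomial.aeval_X, Polynomial.aeval_C, LinearMap.sub_apply, Module.algebraMap_end_apply]
    exact h

end Good

theorem aux1 {A V : Type*} [CommRing A] [AddCommGroup V] [Module A V] (f a j y : A) (x l : V) :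
    f • x + y • l - (a + j) • (y • x) = (f - a * y) • x + y • (l - j • x) := by
  module

theorem aux2 {k V : Type*} [Field k] [AddCommGroup V] [Module k V] {c : k} (hc : c ≠ 0) {w u x z : V}
    (h : z = u + x + c • w) : w - (-c⁻¹) • u = c⁻¹ • (z - x) := by
  have h1 : z - x = u + c • w := by rw [h]; abel
  rw [h1, smul_add, smul_smul, inv_mul_cancel₀ hc, one_smul, neg_smul]
  abel

variable {k : Type v} {A M : Type u} [Field k] [CommRing A] [Algebra k A]
  [AddCommGroup M] [Module A M] [Module k M] [IsScalarTower k A M]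
  {δ : Derivation k A M} {d : ∀ p : ℕ, ↥(⋀[A]^p M) →ₗ[k] ↥(⋀[A]^(p + 1) M)}
  (I : Ideal A)

/-- The `I`-adic filtration of the forms. -/
def Fil (p a : ℕ) : Submodule A ↥(⋀[A]^p M) := I ^ a • ⊤

theorem smul_mem_Fil {p a : ℕ} {y : A} (hy : y ∈ I ^ a) (x : ↥(⋀[A]^p M)) : y • x ∈ Fil I p a :=
  Submodule.smul_mem_smul hy trivial

theorem Fil_anti {p a b : ℕ} (h : a ≤ b) : Fil I p b ≤ Fil (M := M) I p a :=
  Submodule.smul_mono_left (Ideal.pow_le_pow_right h)

theorem smul_Fil {p a b : ℕ} {y : A} (hy : y ∈ I ^ a) {x : ↥(⋀[A]^p M)} (hx : x ∈ Fil I p b) :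
    y • x ∈ Fil I p (a + b) := by
  have h : y • x ∈ I ^ a • (I ^ b • ⊤ : Submodule A ↥(⋀[A]^p M)) := Submodule.smul_mem_smul hy hx
  rwa [← Submodule.mul_smul, ← pow_add] at h

theorem Fil_induction {p a : ℕ} {P : ↥(⋀[A]^p M) → Prop} (h : ∀ y ∈ I ^ a, ∀ x, P (y • x))
    (hadd : ∀ x y, P x → P y → P (x + y)) {x : ↥(⋀[A]^p M)} (hx : x ∈ Fil I p a) : P x :=
  Submodule.smul_induction_on hx (fun y hy x _ => h y hy x) hadd

theorem wedge1_Fil {p a : ℕ} (m : M) {x : ↥(⋀[A]^p M)} (hx : x ∈ Fil I p a) : wedge1 p m x ∈ Fil I (p + 1) a := by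
  refine Fil_induction I (P := fun x => wedge1 p m x ∈ Fil I (p + 1) a) (fun y hy x => ?_) (fun x y hx hy => ?_) hx
  · rw [map_smul]; exact smul_mem_Fil I hy _
  · rw [map_add]; exact Submodule.add_mem _ hx hy

theorem wedge1_mem_Fil {p a : ℕ} {m : M} (hm : m ∈ (I ^ a • ⊤ : Submodule A M)) (x : ↥(⋀[A]^p M)) :
    wedge1 p m x ∈ Fil I (p + 1) a := by
  refine Submodule.smul_induction_on (p := fun m => wedge1 p m x ∈ Fil I (p + 1) a) hm (fun y hy m _ => ?_)
    (fun m m' h h' => ?_)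
  · rw [map_smul, LinearMap.smul_apply]; exact smul_mem_Fil I hy _
  · rw [map_add, LinearMap.add_apply]; exact Submodule.add_mem _ h h'

variable {I}

/-- `δ (I ^ (a + 1)) ⊆ I ^ a M`. -/
theorem δ_pow_mem (a : ℕ) {y : A} (hy : y ∈ I ^ (a + 1)) : δ y ∈ (I ^ a • ⊤ : Submodule A M) := by
  induction a generalizing y with
  | zero => rw [pow_zero, Ideal.one_eq_top, Submodule.top_smul]; trivial
  | succ a ih =>
    rw [pow_succ] at hy
    refine Submodule.mul_induction_on hy (fun x hx z hz => ?_) (fun x y hx hy => ?_)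
    · rw [Derivation.leibniz]
      refine Submodule.add_mem _ (Submodule.smul_mem_smul hx trivial) ?_
      have h1 : z • δ x ∈ I • (I ^ a • ⊤ : Submodule A M) := Submodule.smul_mem_smul hz (ih hx)
      rwa [← Submodule.mul_smul, mul_comm, ← pow_succ] at h1
    · rw [map_add]; exact Submodule.add_mem _ hx hy

section Lie

variable (hgen : Submodule.span A (Set.range δ) = ⊤) (hd : DeRham.IsRule δ d)
  (φ : Module.Dual A M) (hφ : ∀ m, φ m ∈ I)

include hφ in
/-- `i_φ (I ^ a ⋀^(p+1)) ⊆ I ^ (a+1) ⋀^p`. -/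
theorem contr_mem {p a : ℕ} {x : ↥(⋀[A]^(p + 1) M)} (hx : x ∈ Fil I (p + 1) a) : contr φ p x ∈ Fil I p (a + 1) := by
  have h0 : ∀ (p : ℕ) (x : ↥(⋀[A]^(p + 1) M)), contr φ p x ∈ Fil I p 1 := by
    intro p
    induction p with
    | zero =>
      intro x
      refine wedge1_induction 0 (P := fun x => contr φ 0 x ∈ Fil I 0 1) (fun m x => ?_) ?_ (fun x y hx hy => ?_) x
      · rw [contr_wedge1_zero]; exact smul_mem_Fil I (by rw [pow_one]; exact hφ m) x
      · rw [map_zero]; exact Submodule.zero_mem _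
      · rw [map_add]; exact Submodule.add_mem _ hx hy
    | succ p ih =>
      intro x
      refine wedge1_induction (p + 1) (P := fun x => contr φ (p + 1) x ∈ Fil I (p + 1) 1) (fun m x => ?_) ?_
        (fun x y hx hy => ?_) x
      · rw [contr_wedge1]
        exact Submodule.sub_mem _ (smul_mem_Fil I (by rw [pow_one]; exact hφ m) x) (wedge1_Fil I m (ih x))
      · rw [map_zero]; exact Submodule.zero_mem _
      · rw [map_add]; exact Submodule.add_mem _ hx hy
  refine Fil_induction I (P := fun x => contr φ p x ∈ Fil I p (a + 1)) (fun y hy x => ?_) (fun x y hx hy => ?_) hx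
  · rw [map_smul]; exact smul_Fil I hy (h0 p x)
  · rw [map_add]; exact Submodule.add_mem _ hx hy

variable (hφ' : ∀ x ∈ I, φ (δ x) - x ∈ I ^ 2)

include hφ' in
/-- `φ (δ y) = a y` modulo `I ^ (a+1)` for `y ∈ I ^ a`. -/
theorem φδ_pow (a : ℕ) {y : A} (hy : y ∈ I ^ a) (hφ : ∀ m, φ m ∈ I) : φ (δ y) - (a : A) * y ∈ I ^ (a + 1) := by
  induction a generalizing y with
  | zero => rw [Nat.cast_zero, zero_mul, sub_zero, zero_add, pow_one]; exact hφ _
  | succ a ih =>
    rw [pow_succ] at hy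
    refine Submodule.mul_induction_on hy (fun x hx z hz => ?_) (fun x y hx hy => ?_)
    · have h1 : φ (δ (x * z)) - ((a + 1 : ℕ) : A) * (x * z) =
          x * (φ (δ z) - z) + z * (φ (δ x) - (a : A) * x) := by
        rw [Derivation.leibniz, map_add, map_smul, map_smul, smul_eq_mul, smul_eq_mul]
        push_cast
        ring
      rw [h1]
      refine Ideal.add_mem _ ?_ ?_
      · have := Ideal.mul_mem_mul hx (hφ' z hz)
        rwa [← pow_add] at this
      · have := Ideal.mul_mem_mul hz (ih hx)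
        rwa [← pow_succ'] at this
    · have h1 : φ (δ (x + y)) - ((a + 1 : ℕ) : A) * (x + y) =
          (φ (δ x) - ((a + 1 : ℕ) : A) * x) + (φ (δ y) - ((a + 1 : ℕ) : A) * y) := by
        rw [map_add, map_add]; ring
      rw [h1]
      exact Ideal.add_mem _ hx hy

include hgen hd hφ in
theorem lie_Fil {p a : ℕ} {x : ↥(⋀[A]^p M)} (hφ' : ∀ x ∈ I, φ (δ x) - x ∈ I ^ 2) (hx : x ∈ Fil I p a) :
    lie d φ p x ∈ Fil I p a := by
  refine Fil_induction I (P := fun x => lie d φ p x ∈ Fil I p a) (fun y hy x => ?_) (fun x y hx hy => ?_) hx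
  · rw [lie_smul hgen hd]
    refine Submodule.add_mem _ (smul_mem_Fil I ?_ x) (smul_mem_Fil I hy _)
    have h1 := φδ_pow φ hφ' a hy hφ
    have h2 : φ (δ y) = (φ (δ y) - (a : A) * y) + (a : A) * y := by ring
    rw [h2]
    exact Ideal.add_mem _ (Ideal.pow_le_pow_right (Nat.le_succ a) h1) (Ideal.mul_mem_left _ _ hy)
  · rw [map_add]; exact Submodule.add_mem _ hx hy

/-- Forms with `L w = j w` modulo `I`. -/
def Eig (hgen : Submodule.span A (Set.range δ) = ⊤) (hd : DeRham.IsRule δ d) (φ : Module.Dual A M)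
    (hφ : ∀ m, φ m ∈ I) (p j : ℕ) : Submodule A ↥(⋀[A]^p M) where
  carrier := {w | lie d φ p w - (j : A) • w ∈ Fil I p 1}
  zero_mem' := by
    change lie d φ p 0 - (j : A) • 0 ∈ Fil I p 1
    rw [map_zero, smul_zero, sub_zero]; exact Submodule.zero_mem _
  add_mem' := fun {x y} hx hy => by
    change lie d φ p (x + y) - (j : A) • (x + y) ∈ Fil I p 1
    have h : lie d φ p (x + y) - (j : A) • (x + y) =
        (lie d φ p x - (j : A) • x) + (lie d φ p y - (j : A) • y) := by
      rw [map_add, smul_add]; abel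
    rw [h]
    exact Submodule.add_mem _ hx hy
  smul_mem' := fun a x hx => by
    change lie d φ p (a • x) - (j : A) • (a • x) ∈ Fil I p 1
    have h : lie d φ p (a • x) - (j : A) • (a • x) =
        φ (δ a) • x + a • (lie d φ p x - (j : A) • x) := by
      rw [lie_smul hgen hd, smul_sub, smul_comm (j : A) a x]; abel
    rw [h]
    exact Submodule.add_mem _ (smul_mem_Fil I (by rw [pow_one]; exact hφ _) x) (Submodule.smul_mem _ a hx)

theorem mem_Eig {p j : ℕ} {w : ↥(⋀[A]^p M)} :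
    w ∈ Eig hgen hd φ hφ p j ↔ lie d φ p w - (j : A) • w ∈ Fil I p 1 := Iff.rfl

include hφ' in
theorem Fil_le_Eig (p j : ℕ) : Fil I p 1 ≤ Eig hgen hd φ hφ p j := fun x hx => by
  rw [mem_Eig]
  exact Submodule.sub_mem _ (lie_Fil hgen hd φ hφ hφ' hx) (Submodule.smul_mem _ _ hx)

include hφ' in
theorem wedge1_Eig_succ {p j : ℕ} {y : A} (hy : y ∈ I) {x : ↥(⋀[A]^p M)} (hx : x ∈ Eig hgen hd φ hφ p j) :
    wedge1 p (δ y) x ∈ Eig hgen hd φ hφ (p + 1) (j + 1) := by
  rw [mem_Eig] at hx ⊢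
  have h : lie d φ (p + 1) (wedge1 p (δ y) x) - ((j + 1 : ℕ) : A) • wedge1 p (δ y) x =
      wedge1 p (δ (φ (δ y) - y)) x + wedge1 p (δ y) (lie d φ p x - (j : A) • x) := by
    rw [lie_wedge1 hgen hd, map_sub δ, map_sub (wedge1 p), LinearMap.sub_apply, map_sub (wedge1 p (δ y)),
      map_smul (wedge1 p (δ y)), Nat.cast_succ, add_smul, one_smul]
    abel
  rw [h]
  exact Submodule.add_mem _ (wedge1_mem_Fil I (δ_pow_mem 1 (hφ' y hy)) x) (wedge1_Fil I _ hx)

theorem wedge1_Eig {p j : ℕ} {b : A} (hb : φ (δ b) ∈ I ^ 2) {x : ↥(⋀[A]^p M)} (hx : x ∈ Eig hgen hd φ hφ p j) :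
    wedge1 p (δ b) x ∈ Eig hgen hd φ hφ (p + 1) j := by
  rw [mem_Eig] at hx ⊢
  have h : lie d φ (p + 1) (wedge1 p (δ b) x) - (j : A) • wedge1 p (δ b) x =
      wedge1 p (δ (φ (δ b))) x + wedge1 p (δ b) (lie d φ p x - (j : A) • x) := by
    rw [lie_wedge1 hgen hd, map_sub (wedge1 p (δ b)), map_smul (wedge1 p (δ b))]
    abel
  rw [h]
  exact Submodule.add_mem _ (wedge1_mem_Fil I (δ_pow_mem 1 hb) x) (wedge1_Fil I _ hx)

include hφ' in
theorem mem_iSup_wedge1_succ {p : ℕ} {y : A} (hy : y ∈ I) {x : ↥(⋀[A]^p M)}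
    (hx : x ∈ ⨆ j, Eig hgen hd φ hφ p j) : wedge1 p (δ y) x ∈ ⨆ j, Eig hgen hd φ hφ (p + 1) (j + 1) := by
  induction hx using Submodule.iSup_induction' with
  | mem j x hx => exact Submodule.mem_iSup_of_mem j (wedge1_Eig_succ hgen hd φ hφ hφ' hy hx)
  | zero => rw [map_zero]; exact Submodule.zero_mem _
  | add x y _ _ hx hy => rw [map_add]; exact Submodule.add_mem _ hx hy

theorem iSup_succ_le (p : ℕ) : ⨆ j, Eig hgen hd φ hφ p (j + 1) ≤ ⨆ j, Eig hgen hd φ hφ p j :=
  iSup_le fun j => le_iSup (fun j => Eig hgen hd φ hφ p j) (j + 1)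

include hφ' in
/-- The eigenforms span. -/
theorem iSup_Eig (p : ℕ) : ⨆ j, Eig hgen hd φ hφ p j = ⊤ := by
  induction p with
  | zero =>
    rw [eq_top_iff]
    intro x _
    refine Submodule.mem_iSup_of_mem 0 ?_
    rw [mem_Eig, Nat.cast_zero, zero_smul, sub_zero, lie_zero]
    refine contr_mem (a := 0) φ hφ ?_
    change d 0 x ∈ (I ^ 0 • ⊤ : Submodule A ↥(⋀[A]^(0 + 1) M))
    rw [pow_zero, Ideal.one_eq_top, Submodule.top_smul]
    trivial
  | succ p ih =>
    rw [eq_top_iff]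
    intro x _
    refine wedge1_induction p (P := fun x => x ∈ ⨆ j, Eig hgen hd φ hφ (p + 1) j) (fun m x => ?_)
      (Submodule.zero_mem _) (fun x y hx hy => Submodule.add_mem _ hx hy) x
    have hm : m ∈ Submodule.span A (Set.range δ) := by rw [hgen]; trivial
    have hx : x ∈ ⨆ j, Eig hgen hd φ hφ p j := by rw [ih]; trivial
    induction hm using Submodule.span_induction with
    | mem m hm =>
      obtain ⟨b, rfl⟩ := hm
      have h1 : wedge1 p (δ b) x = wedge1 p (δ (φ (δ b))) x + wedge1 p (δ (b - φ (δ b))) x := by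
        rw [map_sub δ, map_sub (wedge1 p), LinearMap.sub_apply]; abel
      rw [h1]
      refine Submodule.add_mem _ (iSup_succ_le hgen hd φ hφ (p + 1)
        (mem_iSup_wedge1_succ hgen hd φ hφ hφ' (hφ _) hx)) ?_
      have h2 : φ (δ (b - φ (δ b))) ∈ I ^ 2 := by
        have h3 := hφ' (φ (δ b)) (hφ _)
        have h4 : φ (δ (b - φ (δ b))) = -(φ (δ (φ (δ b))) - φ (δ b)) := by
          rw [map_sub δ, map_sub φ]; ring
        rw [h4]
        exact Ideal.neg_mem_iff _ |>.2 h3
      clear h1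
      induction hx using Submodule.iSup_induction' with
      | mem j x hx => exact Submodule.mem_iSup_of_mem j (wedge1_Eig hgen hd φ hφ h2 hx)
      | zero => rw [map_zero]; exact Submodule.zero_mem _
      | add x y _ _ hx hy => rw [map_add]; exact Submodule.add_mem _ hx hy
    | zero => rw [map_zero, LinearMap.zero_apply]; exact Submodule.zero_mem _
    | add m m' _ _ h h' => rw [map_add, LinearMap.add_apply]; exact Submodule.add_mem _ h h'
    | smul a m _ h => rw [map_smul, LinearMap.smul_apply]; exact Submodule.smul_mem _ a h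

variable (I δ) in
/-- The submodule `I ⋀^p + δI ∧ ⋀^(p-1)`. -/
def G : (p : ℕ) → Submodule A ↥(⋀[A]^p M)
  | 0 => Fil I 0 1
  | p + 1 => Fil I (p + 1) 1 ⊔ Submodule.span A {w | ∃ y ∈ I, ∃ x : ↥(⋀[A]^p M), w = wedge1 p (δ y) x}

theorem Fil_le_G (p : ℕ) : Fil I p 1 ≤ G δ I p := by
  cases p with
  | zero => exact le_rfl
  | succ p => exact le_sup_left

include hφ' in
theorem G_le (p : ℕ) : G δ I p ≤ ⨆ j, Eig hgen hd φ hφ p (j + 1) := by
  have h1 : Fil I p 1 ≤ ⨆ j, Eig hgen hd φ hφ p (j + 1) :=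
    (Fil_le_Eig hgen hd φ hφ hφ' p 1).trans (le_iSup (fun j => Eig hgen hd φ hφ p (j + 1)) 0)
  cases p with
  | zero => exact h1
  | succ p =>
    refine sup_le h1 (Submodule.span_le.2 ?_)
    rintro _ ⟨y, hy, x, rfl⟩
    exact mem_iSup_wedge1_succ hgen hd φ hφ hφ' hy (by rw [iSup_Eig hgen hd φ hφ hφ']; trivial)

variable [CharZero k]

/-- The `I`-adic filtration, as a `k`-subspace. -/
abbrev FilK (k : Type v) {A M : Type u} [Field k] [CommRing A] [Algebra k A]
    [AddCommGroup M] [Module A M] [Module k M] [IsScalarTower k A M] (I : Ideal A) (p a : ℕ) :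
    Submodule k ↥(⋀[A]^p M) := (Fil I p a).restrictScalars k

include hgen hd hφ hφ' in
theorem lie_FilK (p N : ℕ) : ∀ w ∈ FilK k (M := M) I p N, lie d φ p w ∈ FilK k (M := M) I p N :=
  fun _ hw => lie_Fil hgen hd φ hφ hφ' hw

include hgen hd hφ hφ' in
theorem good_Fil (p N : ℕ) : ∀ (t a : ℕ), 1 ≤ a → N ≤ a + t → ∀ w ∈ Fil (M := M) I p a,
    Good (lie d φ p) (FilK k (M := M) I p N) w := by
  intro t
  induction t with
  | zero => exact fun a _ ha w hw => Good.of_mem (Fil_anti I (by omega) hw)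
  | succ t ih =>
    intro a ha hN w hw
    refine Fil_induction I (P := Good (lie d φ p) (FilK k (M := M) I p N)) (fun y hy x => ?_)
      (fun x y hx hy => Good.add (lie_FilK hgen hd φ hφ hφ' p N) hx hy) hw
    have hx : x ∈ ⨆ j, Eig hgen hd φ hφ p j := by rw [iSup_Eig hgen hd φ hφ hφ']; trivial
    induction hx using Submodule.iSup_induction' with
    | mem j x hx =>
      refine Good.of_eigen (c := ((a + j : ℕ) : k)) (Nat.cast_ne_zero.2 (by omega)) (ih (a + 1) (by omega) (by omega) _ ?_)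
      have h1 : lie d φ p (y • x) - ((a + j : ℕ) : k) • (y • x) =
          (φ (δ y) - (a : A) * y) • x + y • (lie d φ p x - (j : A) • x) := by
        have h2 : ((a + j : ℕ) : k) • (y • x) = ((a + j : ℕ) : A) • (y • x) := by
          rw [Nat.cast_smul_eq_nsmul, Nat.cast_smul_eq_nsmul]
        rw [h2, lie_smul hgen hd, Nat.cast_add]
        exact aux1 _ _ _ _ _ _
      rw [h1]
      exact Submodule.add_mem _ (smul_mem_Fil I (φδ_pow φ hφ' a hy hφ) x) (smul_Fil I hy hx)
    | zero => rw [smul_zero]; exact Good.of_mem (Submodule.zero_mem _)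
    | add x x' _ _ hx hx' =>
      rw [smul_add]
      exact Good.add (lie_FilK hgen hd φ hφ hφ' p N) hx hx'

include hgen hd hφ hφ' in
theorem good_G (p N : ℕ) {w : ↥(⋀[A]^p M)} (hw : w ∈ G δ I p) :
    Good (lie d φ p) (FilK k (M := M) I p N) w := by
  have h := G_le hgen hd φ hφ hφ' p hw
  clear hw
  induction h using Submodule.iSup_induction' with
  | mem j x hx =>
    refine Good.of_eigen (c := ((j + 1 : ℕ) : k)) (Nat.cast_ne_zero.2 (by omega))
      (good_Fil hgen hd φ hφ hφ' p N N 1 le_rfl (by omega) _ ?_)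
    have h2 : ((j + 1 : ℕ) : k) • x = ((j + 1 : ℕ) : A) • x := by
      rw [Nat.cast_smul_eq_nsmul, Nat.cast_smul_eq_nsmul]
    rw [h2]
    exact hx
  | zero => exact Good.of_mem (Submodule.zero_mem _)
  | add x x' _ _ hx hx' => exact Good.add (lie_FilK hgen hd φ hφ hφ' p N) hx hx'

include hgen hd in
theorem d_FilK {p a : ℕ} {x : ↥(⋀[A]^p M)} (hx : x ∈ Fil I p (a + 1)) : d p x ∈ Fil I (p + 1) a := by
  refine Fil_induction I (P := fun x => d p x ∈ Fil I (p + 1) a) (fun y hy x => ?_) (fun x y hx hy => ?_) hx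
  · rw [d_smul hgen hd]
    exact Submodule.add_mem _ (wedge1_mem_Fil I (δ_pow_mem a hy) x) (Fil_anti I (Nat.le_succ a) (smul_mem_Fil I hy _))
  · rw [map_add]; exact Submodule.add_mem _ hx hy

include hgen hd in
theorem d_G {p : ℕ} {x : ↥(⋀[A]^p M)} (hx : x ∈ G δ I p) : d p x ∈ G δ I (p + 1) := by
  have h1 : ∀ x ∈ Fil I p 1, d p x ∈ G δ I (p + 1) := fun x hx => by
    refine Fil_induction I (P := fun x => d p x ∈ G δ I (p + 1)) (fun y hy x => ?_) (fun x y hx hy => ?_) hx
    · rw [d_smul hgen hd]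
      refine Submodule.add_mem _ (Submodule.mem_sup_right (Submodule.subset_span ⟨y, by rwa [pow_one] at hy, x, rfl⟩))
        (Submodule.mem_sup_left (smul_mem_Fil I hy _))
    · rw [map_add]; exact Submodule.add_mem _ hx hy
  cases p with
  | zero => exact h1 x hx
  | succ p =>
    obtain ⟨x₁, hx₁, x₂, hx₂, rfl⟩ := Submodule.mem_sup.1 hx
    rw [map_add]
    refine Submodule.add_mem _ (h1 _ hx₁) ?_
    clear hx
    have h2 : ∀ a : A, d (p + 1) (a • x₂) ∈ G δ I (p + 1 + 1) := by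
      induction hx₂ using Submodule.span_induction with
      | mem w hw =>
        obtain ⟨y, hy, x, rfl⟩ := hw
        intro a
        rw [← map_smul, d_wedge1 hgen hd]
        exact Submodule.neg_mem _ (Submodule.mem_sup_right (Submodule.subset_span ⟨y, hy, _, rfl⟩))
      | zero => intro a; rw [smul_zero, map_zero]; exact Submodule.zero_mem _
      | add x y _ _ hx hy => intro a; rw [smul_add, map_add]; exact Submodule.add_mem _ (hx a) (hy a)
      | smul b x _ hx => intro a; rw [smul_smul]; exact hx _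
    have h3 := h2 1
    rwa [one_smul] at h3

theorem lie_pow_d (hdd : ∀ (p : ℕ) (x : ↥(⋀[A]^p M)), d (p + 1) (d p x) = 0) (p : ℕ) (Q : Polynomial k)
    (x : ↥(⋀[A]^p M)) : Polynomial.aeval (lie d φ (p + 1)) Q (d p x) = d p (Polynomial.aeval (lie d φ p) Q x) := by
  induction Q using Polynomial.induction_on' with
  | add P Q hP hQ => rw [map_add, LinearMap.add_apply, map_add, LinearMap.add_apply, hP, hQ, map_add]
  | monomial n a =>
    rw [Polynomial.aeval_monomial, Module.End.mul_apply, Module.algebraMap_end_apply,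
      Polynomial.aeval_monomial, Module.End.mul_apply, Module.algebraMap_end_apply, map_smul]
    congr 1
    induction n with
    | zero => rw [pow_zero, pow_zero]; rfl
    | succ n ih => rw [pow_succ', Module.End.mul_apply, ih, pow_succ', Module.End.mul_apply, lie_d hdd]

include hgen hd hφ hφ' in
/-- **The inclusion of `I ^ N` in `G` is a quasi-isomorphism, degree zero.** -/
theorem main_zero (N : ℕ) {w : ↥(⋀[A]^0 M)} (hw : w ∈ G δ I 0) (hdw : d 0 w ∈ Fil I 1 N) :
    w ∈ Fil I 0 (N + 1) := by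
  obtain ⟨Q, hQ, h1⟩ := good_G hgen hd φ hφ hφ' 0 (N + 1) hw
  have h2 : lie d φ 0 w ∈ FilK k (M := M) I 0 (N + 1) := by
    rw [lie_zero]
    exact contr_mem φ hφ hdw
  have h3 : Polynomial.aeval (lie d φ 0) Q w =
      Polynomial.aeval (lie d φ 0) Q.divX (lie d φ 0 w) + Q.coeff 0 • w := by
    conv_lhs => rw [← Polynomial.divX_mul_X_add Q]
    rw [map_add, map_mul, Polynomial.aeval_X, Polynomial.aeval_C, LinearMap.add_apply, Module.End.mul_apply,
      Module.algebraMap_end_apply]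
  have h4 : Q.coeff 0 • w ∈ FilK k (M := M) I 0 (N + 1) := by
    have h5 : Q.coeff 0 • w = Polynomial.aeval (lie d φ 0) Q w -
        Polynomial.aeval (lie d φ 0) Q.divX (lie d φ 0 w) := by rw [h3]; abel
    rw [h5]
    exact Submodule.sub_mem _ h1 (aeval_mem (lie_FilK hgen hd φ hφ hφ' 0 (N + 1)) _ h2)
  have h6 := Submodule.smul_mem _ (Q.coeff 0)⁻¹ h4
  rwa [smul_smul, inv_mul_cancel₀ hQ, one_smul] at h6

include hgen hd hφ hφ' in
/-- **The inclusion of `I ^ (N - p)` in `G p` is a quasi-isomorphism, positive degrees.** -/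
theorem main_succ (p N : ℕ) {w : ↥(⋀[A]^(p + 1) M)} (hw : w ∈ G δ I (p + 1)) (hdw : d (p + 1) w ∈ Fil I (p + 2) N) :
    ∃ u ∈ G δ I p, w - d p u ∈ Fil I (p + 1) (N + 1) := by
  obtain ⟨Q, hQ, h1⟩ := good_G hgen hd φ hφ hφ' (p + 1) (N + 1) hw
  have hdd : ∀ (p : ℕ) (x : ↥(⋀[A]^p M)), d (p + 1) (d p x) = 0 := fun p x => d_d hgen hd p x
  have h2 : contr φ (p + 1) (d (p + 1) w) ∈ FilK k (M := M) I (p + 1) (N + 1) := contr_mem φ hφ hdw
  have h3 : Polynomial.aeval (lie d φ (p + 1)) Q w =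
      d p (Polynomial.aeval (lie d φ p) Q.divX (contr φ p w)) +
        Polynomial.aeval (lie d φ (p + 1)) Q.divX (contr φ (p + 1) (d (p + 1) w)) + Q.coeff 0 • w := by
    conv_lhs => rw [← Polynomial.divX_mul_X_add Q]
    rw [map_add, map_mul, Polynomial.aeval_X, Polynomial.aeval_C, LinearMap.add_apply, Module.End.mul_apply,
      Module.algebraMap_end_apply, lie_succ, map_add, lie_pow_d φ hdd]
  let u := Polynomial.aeval (lie d φ p) Q.divX (contr φ p w)
  have hu : u ∈ Fil I p 1 := by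
    refine aeval_mem (W := FilK k (M := M) I p 1) (lie_FilK hgen hd φ hφ hφ' p 1) _ ?_
    refine contr_mem (a := 0) φ hφ ?_
    change w ∈ (I ^ 0 • ⊤ : Submodule A ↥(⋀[A]^(p + 1) M))
    rw [pow_zero, Ideal.one_eq_top, Submodule.top_smul]
    trivial
  refine ⟨-(Q.coeff 0)⁻¹ • u, ?_, ?_⟩
  · have h5 : -(Q.coeff 0)⁻¹ • u = (algebraMap k A (-(Q.coeff 0)⁻¹)) • u := (algebraMap_smul A _ u).symm
    rw [h5]
    exact Submodule.smul_mem _ _ (Fil_le_G p hu)
  · have h5 : w - d p (-(Q.coeff 0)⁻¹ • u) = (Q.coeff 0)⁻¹ • (Polynomial.aeval (lie d φ (p + 1)) Q w -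
        Polynomial.aeval (lie d φ (p + 1)) Q.divX (contr φ (p + 1) (d (p + 1) w))) := by
      rw [map_smul]
      exact aux2 hQ h3
    rw [h5]
    exact Submodule.smul_mem (FilK k (M := M) I (p + 1) (N + 1)) _ (Submodule.sub_mem _ h1
      (aeval_mem (lie_FilK hgen hd φ hφ hφ' (p + 1) (N + 1)) _ h2))

end Lie

end K853.Lef.Euler
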