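import Groth.Agent.DeRhamSh.K853.Lef.Euler
import Groth.Agent.Lefpen.H721.OmegaPow

/-!
# The kernel of the map on exterior powers induced by a surjection

`f : M → M'` surjective, semilinear over a surjection `σ : A → A'`: the kernel of `⋀^p f` is generated by the
`n ∧ x` with `f n = 0` (and by `ker σ` for `p = 0`).  For differentials: the kernel of
`⋀^p Ω_B → ⋀^p Ω_C` is `Euler.G`.
-/

set_option autoImplicit false
set_option linter.unusedSectionVars false
universe u

namespace K853.Lef.ExtKer

open K852.DR exteriorPower Groth.Agent.Krr.H495.ExtSemi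

section Gen

variable {A A' M M' : Type*} [CommRing A] [CommRing A'] {σ : A →+* A'} (hσ : Function.Surjective σ)
  [AddCommGroup M] [Module A M] [AddCommGroup M'] [Module A' M'] (f : M →ₛₗ[σ] M') (hf : Function.Surjective f)

/-- The kernel. -/
def N : (p : ℕ) → Submodule A ↥(⋀[A]^p M)
  | 0 => RingHom.ker σ • ⊤
  | p + 1 => Submodule.span A {w | ∃ (n : M) (_ : f n = 0) (x : ↥(⋀[A]^p M)), w = wedge1 p n x}

variable {f}

theorem wedge1_mem {p : ℕ} {n : M} (hn : f n = 0) (x : ↥(⋀[A]^p M)) : wedge1 p n x ∈ N f (p + 1) :=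
  Submodule.subset_span ⟨n, hn, x, rfl⟩

/-- Stability under exterior multiplication. -/
theorem wedge1_N {p : ℕ} (m : M) {x : ↥(⋀[A]^p M)} (hx : x ∈ N f p) : wedge1 p m x ∈ N f (p + 1) := by
  cases p with
  | zero =>
    refine Submodule.smul_induction_on (p := fun x => wedge1 0 m x ∈ N f 1) hx (fun a ha x _ => ?_)
      (fun x y hx hy => ?_)
    · rw [map_smul, ← LinearMap.smul_apply, ← map_smul]
      refine wedge1_mem ?_ x
      rw [LinearMap.map_smulₛₗ, (RingHom.mem_ker).1 ha, zero_smul]
    · rw [map_add]; exact Submodule.add_mem _ hx hy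
  | succ p =>
    induction hx using Submodule.span_induction with
    | mem x hx =>
      obtain ⟨n, hn, x, rfl⟩ := hx
      rw [wedge1_swap]
      exact Submodule.neg_mem _ (wedge1_mem hn _)
    | zero => rw [map_zero]; exact Submodule.zero_mem _
    | add x y _ _ hx hy => rw [map_add]; exact Submodule.add_mem _ hx hy
    | smul a x _ hx => rw [map_smul]; exact Submodule.smul_mem _ a hx

/-- `ker σ ⋀^p ⊆ N p`. -/
theorem smul_mem_N {p : ℕ} {a : A} (ha : σ a = 0) (x : ↥(⋀[A]^p M)) : a • x ∈ N f p := by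
  cases p with
  | zero => exact Submodule.smul_mem_smul (RingHom.mem_ker.2 ha) trivial
  | succ p =>
    refine wedge1_induction p (P := fun x => a • x ∈ N f (p + 1)) (fun m x => ?_) ?_ (fun x y hx hy => ?_) x
    · rw [← LinearMap.smul_apply, ← map_smul]
      refine wedge1_mem ?_ x
      rw [LinearMap.map_smulₛₗ, ha, zero_smul]
    · rw [smul_zero]; exact Submodule.zero_mem _
    · rw [smul_add]; exact Submodule.add_mem _ hx hy

theorem ιMulti_sub_mem {p : ℕ} {v w : Fin p → M} (h : ∀ i, f (v i) = f (w i)) :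
    ιMulti A p v - ιMulti A p w ∈ N f p := by
  induction p with
  | zero =>
    have : v = w := Subsingleton.elim _ _
    rw [this, sub_self]
    exact Submodule.zero_mem _
  | succ p ih =>
    rw [ιMulti_succ, ιMulti_succ]
    have h1 : wedge1 p (v 0) (ιMulti A p fun i => v i.succ) - wedge1 p (w 0) (ιMulti A p fun i => w i.succ) =
        wedge1 p (v 0 - w 0) (ιMulti A p fun i => v i.succ) +
          wedge1 p (w 0) (ιMulti A p (fun i => v i.succ) - ιMulti A p fun i => w i.succ) := by
      rw [map_sub, map_sub, LinearMap.sub_apply]; abel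
    rw [h1]
    exact Submodule.add_mem _ (wedge1_mem (by rw [map_sub, h 0, sub_self]) _)
      (wedge1_N _ (ih fun i => h i.succ))

variable (f) in
/-- The quotient. -/
def Q (p : ℕ) : Type _ := ↥(⋀[A]^p M) ⧸ N f p

instance (p : ℕ) : AddCommGroup (Q f p) := inferInstanceAs (AddCommGroup (↥(⋀[A]^p M) ⧸ N f p))

variable (f) in
/-- The projection. -/
def mk (p : ℕ) : ↥(⋀[A]^p M) →+ Q f p := (N f p).mkQ.toAddMonoidHom

theorem mk_surjective (p : ℕ) : Function.Surjective (mk f p) := (N f p).mkQ_surjective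

theorem mk_eq_zero {p : ℕ} {x : ↥(⋀[A]^p M)} : mk f p x = 0 ↔ x ∈ N f p :=
  Submodule.Quotient.mk_eq_zero (N f p)

theorem mk_eq {p : ℕ} {x y : ↥(⋀[A]^p M)} : mk f p x = mk f p y ↔ x - y ∈ N f p :=
  Submodule.Quotient.eq (N f p)

theorem mk_ιMulti {p : ℕ} {v w : Fin p → M} (h : ∀ i, f (v i) = f (w i)) :
    mk f p (ιMulti A p v) = mk f p (ιMulti A p w) := mk_eq.2 (ιMulti_sub_mem h)

/-- The action of `A'` on the quotient. -/
noncomputable def act (p : ℕ) (c : A') : Q f p →+ Q f p :=
  (N f p).mapQ (N f p) (LinearMap.lsmul A ↥(⋀[A]^p M) (Function.surjInv hσ c))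
    (fun _ hx => Submodule.smul_mem _ _ hx) |>.toAddMonoidHom

theorem act_mk {p : ℕ} (c : A) (x : ↥(⋀[A]^p M)) : act hσ (f := f) p (σ c) (mk f p x) = mk f p (c • x) := by
  change mk f p (Function.surjInv hσ (σ c) • x) = mk f p (c • x)
  have h1 : Function.surjInv hσ (σ c) • x - c • x = (Function.surjInv hσ (σ c) - c) • x := (sub_smul _ _ _).symm
  rw [mk_eq, h1]
  exact smul_mem_N (by rw [map_sub, Function.surjInv_eq hσ, sub_self]) x

/-- The quotient as an `A'`-module. -/
@[reducible] noncomputable def modQ (p : ℕ) : Module A' (Q f p) where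
  smul c q := act hσ p c q
  one_smul q := by
    obtain ⟨x, rfl⟩ := mk_surjective p q
    change act hσ p 1 (mk f p x) = _
    rw [← map_one σ, act_mk, one_smul]
  mul_smul c c' q := by
    obtain ⟨x, rfl⟩ := mk_surjective p q
    obtain ⟨a, rfl⟩ := hσ c
    obtain ⟨a', rfl⟩ := hσ c'
    change act hσ p _ (mk f p x) = act hσ p _ (act hσ p _ (mk f p x))
    rw [← map_mul, act_mk, act_mk, act_mk, mul_smul]
  smul_zero c := map_zero (act hσ (f := f) p c)
  smul_add c := map_add (act hσ (f := f) p c)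
  add_smul c c' q := by
    obtain ⟨x, rfl⟩ := mk_surjective p q
    obtain ⟨a, rfl⟩ := hσ c
    obtain ⟨a', rfl⟩ := hσ c'
    change act hσ p _ (mk f p x) = act hσ p _ (mk f p x) + act hσ p _ (mk f p x)
    rw [← map_add, act_mk, act_mk, act_mk, add_smul, map_add]
  zero_smul q := by
    obtain ⟨x, rfl⟩ := mk_surjective p q
    change act hσ p 0 (mk f p x) = _
    rw [← map_zero σ, act_mk, zero_smul, map_zero]

include hf in
/-- The alternating map into the quotient. -/
theorem exists_alt (p : ℕ) :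
    letI := modQ hσ (f := f) p
    ∃ g : M' [⋀^Fin p]→ₗ[A'] Q f p, ∀ v : Fin p → M, g (fun i => f (v i)) = mk f p (ιMulti A p v) := by
  let := modQ hσ (f := f) p
  let s : M' → M := Function.surjInv hf
  have hs : ∀ m, f (s m) = m := Function.surjInv_eq hf
  have hup : ∀ (dec : DecidableEq (Fin p)) (v : Fin p → M') (i : Fin p) (a : M') (b : M), f b = a →
      mk f p (ιMulti A p fun j => s (@Function.update _ _ dec v i a j)) =
        mk f p (ιMulti A p (@Function.update _ _ dec (fun j => s (v j)) i b)) := by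
    intro dec v i a b hb
    refine mk_ιMulti fun j => ?_
    rw [hs]
    by_cases h : j = i
    · subst h; rw [Function.update_self, Function.update_self, hb]
    · rw [Function.update_of_ne h, Function.update_of_ne h, hs]
  refine ⟨{ toFun := fun v => mk f p (ιMulti A p fun i => s (v i))
            map_update_add' := fun {dec} v i a b => ?_
            map_update_smul' := fun {dec} v i c a => ?_
            map_eq_zero_of_eq' := fun v i j h hij => ?_ }, fun v => mk_ιMulti fun i => hs _⟩
  · rw [hup dec v i (a + b) (s a + s b) (by rw [map_add, hs, hs]), hup dec v i a (s a) (hs a),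
      hup dec v i b (s b) (hs b)]
    rw [show (ιMulti A p) (@Function.update _ _ dec (fun j => s (v j)) i (s a + s b)) = _ from
      (ιMulti A p (M := M)).map_update_add (fun j => s (v j)) i (s a) (s b), map_add]
  · obtain ⟨c, rfl⟩ := hσ c
    rw [hup dec v i (σ c • a) (c • s a) (by rw [LinearMap.map_smulₛₗ, hs]), hup dec v i a (s a) (hs a)]
    rw [show (ιMulti A p) (@Function.update _ _ dec (fun j => s (v j)) i (c • s a)) = _ from
      (ιMulti A p (M := M)).map_update_smul (fun j => s (v j)) i c (s a)]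
    exact (act_mk hσ c _).symm
  · change mk f p (ιMulti A p fun i => s (v i)) = 0
    rw [(ιMulti A p (M := M)).map_eq_zero_of_eq (fun i => s (v i)) (congrArg s h) hij, map_zero]

include hσ hf in
/-- **The kernel of `⋀^p f`.** -/
theorem mem_N_of_eq_zero (p : ℕ) (x : ↥(⋀[A]^p M)) (h : extS p f x = 0) : x ∈ N f p := by
  let := modQ hσ (f := f) p
  obtain ⟨g, hg⟩ := exists_alt hσ hf (f := f) p
  let L : ↥(⋀[A']^p M') →ₗ[A'] Q f p := alternatingMapLinearEquiv g
  have key : ∀ x : ↥(⋀[A]^p M), L (extS p f x) = mk f p x := by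
    intro x
    have hx : x ∈ Submodule.span A (Set.range (ιMulti A p (M := M))) := by
      rw [ιMulti_span]; trivial
    induction hx using Submodule.span_induction with
    | mem x hx =>
      obtain ⟨v, rfl⟩ := hx
      rw [extS_ιMulti, ← hg v]
      exact alternatingMapLinearEquiv_apply_ιMulti g _
    | zero => rw [map_zero, map_zero, map_zero]
    | add x y _ _ hx hy => rw [map_add, map_add, map_add, hx, hy]
    | smul a x _ hx =>
      rw [LinearMap.map_smulₛₗ, map_smul, hx]
      exact act_mk hσ a x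
  rw [← mk_eq_zero, ← key x, h, map_zero]

include hσ hf in
theorem extS_surjective (p : ℕ) : Function.Surjective (extS p f) := by
  intro y
  have hy : y ∈ Submodule.span A' (Set.range (ιMulti A' p (M := M'))) := by
    rw [ιMulti_span]; trivial
  induction hy using Submodule.span_induction with
  | mem y hy =>
    obtain ⟨v, rfl⟩ := hy
    choose w hw using fun i => hf (v i)
    refine ⟨ιMulti A p w, ?_⟩
    rw [extS_ιMulti]
    congr 1
    exact funext hw
  | zero => exact ⟨0, map_zero _⟩
  | add x y _ _ hx hy =>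
    obtain ⟨x, rfl⟩ := hx
    obtain ⟨y, rfl⟩ := hy
    exact ⟨x + y, map_add _ _ _⟩
  | smul a x _ hx =>
    obtain ⟨x, rfl⟩ := hx
    obtain ⟨a, rfl⟩ := hσ a
    exact ⟨a • x, LinearMap.map_smulₛₗ _ _ _⟩

end Gen

/-- `1 ⊗ m = 0` in `C ⊗ M`, `C = B / I`, implies `m ∈ I M`. -/
theorem mem_smul_top {B C M : Type*} [CommRing B] [CommRing C] [Algebra B C] [AddCommGroup M] [Module B M]
    (hq : Function.Surjective (algebraMap B C)) (m : M) (h : (1 : C) ⊗ₜ[B] m = 0) :
    m ∈ (RingHom.ker (algebraMap B C)) • (⊤ : Submodule B M) := by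
  let e : (B ⧸ RingHom.ker (algebraMap B C)) ≃ₗ[B] C :=
    (Ideal.quotientKerAlgEquivOfSurjective (f := Algebra.ofId B C) hq).toLinearEquiv
  have h1 : (TensorProduct.congr e.symm (LinearEquiv.refl B M)) ((1 : C) ⊗ₜ[B] m) =
      (1 : B ⧸ RingHom.ker (algebraMap B C)) ⊗ₜ[B] m := by
    rw [TensorProduct.congr_tmul]
    congr 1
    rw [LinearEquiv.symm_apply_eq]
    exact (map_one (Ideal.quotientKerAlgEquivOfSurjective (f := Algebra.ofId B C) hq)).symm
  rw [h, map_zero] at h1
  have h2 := TensorProduct.quotTensorEquivQuotSMul_mk_one_tmul (M := M) (RingHom.ker (algebraMap B C)) m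
  rw [← h1, map_zero] at h2
  exact (Submodule.Quotient.mk_eq_zero _).1 h2.symm

section Kaehler

open Groth.Agent.Lefpen.H721.OmegaPow

variable {k : Type u} {B C : Type u} [Field k] [CommRing B] [CommRing C] [Algebra k B] [Algebra k C]
  (q : B →ₐ[k] C) (hq : Function.Surjective q)

include hq in
theorem omS_surjective : Function.Surjective (omS q) := by
  intro y
  have hy : y ∈ Submodule.span C (Set.range (KaehlerDifferential.D k C)) := by
    rw [KaehlerDifferential.span_range_derivation]; trivial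
  induction hy using Submodule.span_induction with
  | mem y hy =>
    obtain ⟨c, rfl⟩ := hy
    obtain ⟨b, rfl⟩ := hq c
    exact ⟨KaehlerDifferential.D k B b, omS_D q b⟩
  | zero => exact ⟨0, map_zero _⟩
  | add x y _ _ hx hy =>
    obtain ⟨x, rfl⟩ := hx
    obtain ⟨y, rfl⟩ := hy
    exact ⟨x + y, map_add _ _ _⟩
  | smul a x _ hx =>
    obtain ⟨x, rfl⟩ := hx
    obtain ⟨a, rfl⟩ := hq a
    exact ⟨a • x, LinearMap.map_smulₛₗ _ _ _⟩

include hq in
/-- The kernel of `Ω_B → Ω_C`. -/
theorem ker_omS (m : Ω[B⁄k]) (hm : omS q m = 0) :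
    m ∈ (RingHom.ker (q : B →+* C)) • (⊤ : Submodule B (Ω[B⁄k])) ⊔
      Submodule.span B (KaehlerDifferential.D k B '' (RingHom.ker (q : B →+* C) : Set B)) := by
  let : Algebra B C := q.toRingHom.toAlgebra
  have : IsScalarTower k B C := IsScalarTower.of_algebraMap_eq (fun r => (q.commutes r).symm)
  have h1 : KaehlerDifferential.mapBaseChange k B C ((1 : C) ⊗ₜ[B] m) = 0 := by
    rw [KaehlerDifferential.mapBaseChange_tmul, one_smul]
    exact hm
  obtain ⟨z, hz⟩ := (KaehlerDifferential.exact_kerCotangentToTensor_mapBaseChange k B C hq _).1 h1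
  obtain ⟨x, rfl⟩ := Ideal.toCotangent_surjective _ z
  have h2 : (1 : C) ⊗ₜ[B] (m - KaehlerDifferential.D k B x.1) = 0 := by
    rw [TensorProduct.tmul_sub, ← hz]
    exact sub_self _
  have h3 : m - KaehlerDifferential.D k B x.1 ∈ (RingHom.ker (q : B →+* C)) • (⊤ : Submodule B (Ω[B⁄k])) :=
    mem_smul_top hq _ h2
  have h4 : m = (m - KaehlerDifferential.D k B x.1) + KaehlerDifferential.D k B x.1 := by abel
  rw [h4]
  exact Submodule.add_mem_sup h3 (Submodule.subset_span ⟨x.1, x.2, rfl⟩)

include hq in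
/-- **The kernel of `⋀^p Ω_B → ⋀^p Ω_C`.** -/
theorem mem_G_of_powS_eq_zero (p : ℕ) (x : ⋀[B]^p Ω[B⁄k]) (hx : powS q p x = 0) :
    x ∈ Euler.G (KaehlerDifferential.D k B) (RingHom.ker (q : B →+* C)) p := by
  have h1 := mem_N_of_eq_zero (σ := (q : B →+* C)) hq (omS_surjective q hq) p x hx
  cases p with
  | zero =>
    change x ∈ (RingHom.ker (q : B →+* C)) ^ 1 • (⊤ : Submodule B ↥(⋀[B]^0 Ω[B⁄k]))
    rw [pow_one]
    exact h1
  | succ p =>
    refine (Submodule.span_le (p := Euler.G (KaehlerDifferential.D k B) (RingHom.ker (q : B →+* C)) (p + 1))).2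
      ?_ h1
    rintro _ ⟨n, hn, y, rfl⟩
    obtain ⟨a, ha, b, hb, rfl⟩ := Submodule.mem_sup.1 (ker_omS q hq n hn)
    rw [SetLike.mem_coe, map_add, LinearMap.add_apply]
    refine Submodule.add_mem _ (Submodule.mem_sup_left (Euler.wedge1_mem_Fil _ (by rw [pow_one]; exact ha) y)) ?_
    refine Submodule.mem_sup_right ?_
    clear hn
    induction hb using Submodule.span_induction with
    | mem b hb =>
      obtain ⟨z, hz, rfl⟩ := hb
      exact Submodule.subset_span ⟨z, hz, y, rfl⟩
    | zero => rw [map_zero, LinearMap.zero_apply]; exact Submodule.zero_mem _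
    | add b b' _ _ h h' => rw [map_add, LinearMap.add_apply]; exact Submodule.add_mem _ h h'
    | smul c b _ h => rw [map_smul, LinearMap.smul_apply]; exact Submodule.smul_mem _ c h

theorem powS_wedge1 (p : ℕ) (m : Ω[B⁄k]) (x : ⋀[B]^p Ω[B⁄k]) :
    powS q (p + 1) (wedge1 p m x) = wedge1 p (omS q m) (powS q p x) := by
  have hx : x ∈ Submodule.span B (Set.range (ιMulti B p (M := Ω[B⁄k]))) := by
    rw [ιMulti_span]; trivial
  induction hx using Submodule.span_induction with
  | mem x hx =>
    obtain ⟨v, rfl⟩ := hx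
    rw [wedge1_ιMulti, powS, powS, extS_ιMulti, extS_ιMulti, wedge1_ιMulti]
    congr 1
    funext i
    refine Fin.cases ?_ (fun i => ?_) i
    · rfl
    · rfl
  | zero => rw [map_zero, map_zero, map_zero, map_zero]
  | add x y _ _ hx hy => rw [map_add, map_add, map_add, map_add, hx, hy]
  | smul a x _ hx => rw [map_smul, LinearMap.map_smulₛₗ, LinearMap.map_smulₛₗ, map_smul, hx]

theorem powS_Fil_one (p : ℕ) (x : ⋀[B]^p Ω[B⁄k]) (hx : x ∈ Euler.Fil (RingHom.ker (q : B →+* C)) p 1) :
    powS q p x = 0 := by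
  refine Euler.Fil_induction (RingHom.ker (q : B →+* C)) (P := fun x => powS q p x = 0) (fun y hy x => ?_)
    (fun x y hx hy => ?_) hx
  · rw [pow_one] at hy
    rw [LinearMap.map_smulₛₗ, RingHom.mem_ker.1 hy, zero_smul]
  · rw [map_add, hx, hy, add_zero]

/-- The converse inclusion. -/
theorem powS_eq_zero_of_mem_G (p : ℕ) (x : ⋀[B]^p Ω[B⁄k])
    (hx : x ∈ Euler.G (KaehlerDifferential.D k B) (RingHom.ker (q : B →+* C)) p) : powS q p x = 0 := by
  cases p with
  | zero => exact powS_Fil_one q 0 x hx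
  | succ p =>
    obtain ⟨a, ha, b, hb, rfl⟩ := Submodule.mem_sup.1 hx
    rw [map_add, powS_Fil_one q _ a ha, zero_add]
    clear hx
    induction hb using Submodule.span_induction with
    | mem b hb =>
      obtain ⟨z, hz, y, rfl⟩ := hb
      rw [powS_wedge1, omS_D]
      have h1 : q z = 0 := hz
      rw [h1, map_zero, map_zero, LinearMap.zero_apply]
    | zero => rw [map_zero]
    | add b b' _ _ h h' => rw [map_add, h, h', add_zero]
    | smul c b _ h => rw [LinearMap.map_smulₛₗ, h, smul_zero]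

include hq in
theorem powS_surjective (p : ℕ) : Function.Surjective (powS q p) :=
  extS_surjective (σ := (q : B →+* C)) hq (omS_surjective q hq) p

end Kaehler

end K853.Lef.ExtKer
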