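import Groth.Agent.DeRhamSh.K853.Lef.Main
import Groth.Agent.DeRhamSh.K240.ProVan
import Groth.Agent.S19849

/-!
# The Lefschetz theorem for the algebraic de Rham cohomology of a smooth closed subscheme
-/

set_option autoImplicit false
set_option linter.unusedSectionVars false

universe w u

open CategoryTheory CategoryTheory.Limits AlgebraicGeometry Opposite TopologicalSpace

namespace K853.Lef.Final

open K890.CechFull K853.Lef.Main K853.Lef.ProC

variable (k : Type u) [Field k] [CharZero k] (X Y : Scheme.{u})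
    (g : X ⟶ Spec (CommRingCat.of k)) [IsProper g] (n : ℕ) [SmoothOfRelativeDimension n g]
    (ι : Y ⟶ X) [IsClosedImmersion ι] [Smooth (ι ≫ g)]
    (U : X.Opens) (hU : (U : Set ↥X) = (Set.range ι.base)ᶜ) (r : ℕ)
    (hcd : ∀ (F : (↑U : Scheme.{u}).Modules), Coh.IsQCoh F → ∀ q : ℕ, r ≤ q → Subsingleton (Coh.HH ↑U F q))
    (DX : DeRhamSh.OmegaCx g) (DY : DeRhamSh.OmegaCx (ι ≫ g))
    (hX : KLinDR.TermwiseLinear (Coh.toGlobal g) DX.K DX.term DX.iso)
    (hY : KLinDR.TermwiseLinear (Coh.toGlobal (ι ≫ g)) DY.K DY.term DY.iso)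
    [HasDerivedCategory.{w} (Sheaf (Opens.grothendieckTopology X) AddCommGrpCat.{u})]
    [HasDerivedCategory.{w} (Sheaf (Opens.grothendieckTopology Y) AddCommGrpCat.{u})]

include hU in
theorem coe_eq : (U : Set ↥X) = (ι.ker.support : Set X)ᶜ := by
  rw [hU, Scheme.Hom.support_ker]
  congr 1
  exact (ι.isClosedEmbedding.isClosed_range.closure_eq).symm

include hU hcd in
theorem exists_restr (i : ℕ) (hi : i + r ≤ n) :
    ∃ φ : KLinDR.HdR (Coh.toGlobal g) DX hX (i : ℤ) →ₗ[k] KLinDR.HdR (Coh.toGlobal (ι ≫ g)) DY hY (i : ℤ),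
      Function.Injective φ ∧ (i + 1 + r ≤ n → Function.Surjective φ) := by
  have hsm : Smooth g := SmoothOfRelativeDimension.smooth n g
  have : CompactSpace X := QuasiCompact.compactSpace_of_compactSpace g
  obtain ⟨N, V, hV, hcov⟩ := exists_cover X
  have hp : ∀ a b, a + b ≤ n - r → Pro ι g DX a b := fun a b hab m =>
    K240.ProVan.exists_map_eq_zero k X g n ι.ker U (coe_eq X Y ι U hU) r hcd (DX.term a)
      (Groth.Agent.Lefpen.H721.OmegaSec.isFinLocFree_of_isExtPow_omega g (DX.isExtPow a)) b m (by omega)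
  obtain ⟨φ, hφ, hφ'⟩ := exists_restr_of_data ι DX DY hX hY (full (X := X.toTopCat) V) (full_locGood hcov)
    (locGood_comap ι V hcov) (fun n b => isAffineOpen_iInf g n _ fun j => hV _) (n - r) hp i (by omega)
  exact ⟨φ, hφ, fun h => hφ' (by omega)⟩

/-- No cohomology in negative degrees. -/
theorem subsingleton_neg {Z : Scheme.{u}} (f : Z ⟶ Spec (CommRingCat.of k)) [QuasiSeparated f]
    (D : DeRhamSh.OmegaCx f) (h : KLinDR.TermwiseLinear (Coh.toGlobal f) D.K D.term D.iso)
    [HasDerivedCategory.{w} (Sheaf (Opens.grothendieckTopology Z) AddCommGrpCat.{u})] (i : ℤ) (hi : i < 0) :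
    Subsingleton (KLinDR.HdR (Coh.toGlobal f) D h i) :=
  K853.HdRBasic.hdR_subsingleton D i (fun p q hpq => by omega)

include hU hcd in
/-- The restriction map, for integral degrees. -/
theorem exists_restr_int (i : ℤ) (hi : i + r ≤ n) :
    ∃ φ : KLinDR.HdR (Coh.toGlobal g) DX hX i →ₗ[k] KLinDR.HdR (Coh.toGlobal (ι ≫ g)) DY hY i,
      Function.Injective φ ∧ (i + r < n → Function.Surjective φ) := by
  by_cases h : i < 0
  · have h1 := subsingleton_neg k g DX hX i h
    have h2 := subsingleton_neg k (ι ≫ g) DY hY i h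
    exact ⟨0, fun x y _ => Subsingleton.elim x y, fun _ y => ⟨0, Subsingleton.elim _ _⟩⟩
  · obtain ⟨j, rfl⟩ := Int.eq_ofNat_of_zero_le (not_lt.1 h)
    obtain ⟨φ, hφ, hφ'⟩ := exists_restr k X Y g n ι U hU r hcd DX DY hX hY j (by omega)
    exact ⟨φ, hφ, fun h => hφ' (by omega)⟩

end K853.Lef.Final
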