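import Groth.Agent.DeRhamSh.K853.Lef.ProC
import Groth.Agent.DeRhamSh.K853.HdRBasic
import Groth.Agent.DelIll.K890.CechFull

/-!
# The restriction map on de Rham cohomology from pro-vanishing
-/

set_option autoImplicit false
set_option linter.unusedSectionVars false

universe w u

open CategoryTheory CategoryTheory.Limits AlgebraicGeometry Opposite TopologicalSpace

namespace K853.Lef.Main

open Groth.Agent.Ega3B Groth.Agent.Ega3B.CombRes K890.CechHT K890.CechFull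
open K853.Lef.Model K853.Lef.CechLef K853.Lef.TotLef K853.Lef.ProC

attribute [local instance 3000] LocExact.hasSheafify

section cover

theorem isAffineOpen_inf {k : Type u} [CommRing k] {X : Scheme.{u}} (g : X ⟶ Spec (CommRingCat.of k)) [IsSeparated g]
    {U V : X.Opens} (hU : IsAffineOpen U) (hV : IsAffineOpen V) : IsAffineOpen (U ⊓ V) := by
  have : IsAffineHom (pullback.diagonal g) := inferInstance
  exact isAffineHom_diagonal_iff.mp this ⊤ (isAffineOpen_top _) U le_top V le_top hU hV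

theorem isAffineOpen_iInf {k : Type u} [CommRing k] {X : Scheme.{u}} (g : X ⟶ Spec (CommRingCat.of k)) [IsSeparated g]
    (m : ℕ) (V : Fin (m + 1) → X.Opens) (hV : ∀ j, IsAffineOpen (V j)) : IsAffineOpen (⨅ j, V j) := by
  induction m with
  | zero =>
    have h1 : ⨅ j, V j = V 0 := le_antisymm (iInf_le _ 0) (le_iInf fun j => by
      obtain rfl : j = 0 := Fin.ext (by omega)
      exact le_rfl)
    rw [h1]
    exact hV 0
  | succ m ih =>
    have h1 : ⨅ j, V j = V 0 ⊓ ⨅ j : Fin (m + 1), V j.succ := by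
      apply le_antisymm
      · exact le_inf (iInf_le _ 0) (le_iInf fun j => iInf_le _ j.succ)
      · refine le_iInf fun j => ?_
        refine Fin.cases inf_le_left (fun i => ?_) j
        exact inf_le_right.trans (iInf_le (fun j : Fin (m + 1) => V j.succ) i)
    rw [h1]
    exact isAffineOpen_inf g (hV 0) (ih _ fun j => hV _)

theorem exists_cover (X : Scheme.{u}) [CompactSpace X] :
    ∃ (N : ℕ) (U : Fin N → X.Opens), (∀ i, IsAffineOpen (U i)) ∧ ⨆ i, U i = ⊤ := by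
  let 𝒰 := X.affineCover.finiteSubcover
  have : Finite 𝒰.I₀ := inferInstance
  obtain ⟨N, ⟨e⟩⟩ := Finite.exists_equiv_fin 𝒰.I₀
  refine ⟨N, fun i => (𝒰.f (e.symm i)).opensRange, fun i => isAffineOpen_opensRange _, ?_⟩
  rw [← 𝒰.iSup_opensRange]
  exact e.symm.iSup_comp (g := fun i => (𝒰.f i).opensRange)

theorem preimage_iInf {X Y : Scheme.{u}} (ι : Y ⟶ X) {m : ℕ} (V : Fin (m + 1) → X.Opens) :
    ι ⁻¹ᵁ (⨅ j, V j) = ⨅ j, ι ⁻¹ᵁ (V j) := by
  ext x
  have h1 : x ∈ ι ⁻¹ᵁ (⨅ j, V j) ↔ ∀ j, ι x ∈ V j := by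
    change ι x ∈ ((⨅ j, V j : X.Opens) : Set X) ↔ _
    rw [Opens.coe_iInf, Set.mem_iInter]
    rfl
  have h2 : x ∈ (⨅ j, ι ⁻¹ᵁ (V j) : Y.Opens) ↔ ∀ j, ι x ∈ V j := by
    change x ∈ ((⨅ j, ι ⁻¹ᵁ (V j) : Y.Opens) : Set Y) ↔ _
    rw [Opens.coe_iInf, Set.mem_iInter]
    rfl
  exact h1.trans h2.symm

theorem comap_full {X Y : Scheme.{u}} (ι : Y ⟶ X) {N : ℕ} (U : Fin N → X.Opens) :
    comap ι (full (X := X.toTopCat) U) = full (X := Y.toTopCat) (fun i => ι ⁻¹ᵁ (U i)) := by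
  have h : (fun (n : ℕ) (σ : Fin (n + 1) → Fin N) => (ι ⁻¹ᵁ (⨅ j, U (σ j)) : Y.Opens)) =
      fun (n : ℕ) (σ : Fin (n + 1) → Fin N) => ⨅ j, ι ⁻¹ᵁ (U (σ j)) := by
    funext n σ
    exact preimage_iInf ι _
  unfold comap full
  congr 1

theorem locGood_comap {X Y : Scheme.{u}} (ι : Y ⟶ X) {N : ℕ} (U : Fin N → X.Opens) (hU : ⨆ i, U i = ⊤) :
    (comap ι (full (X := X.toTopCat) U)).LocGood := by
  rw [comap_full]
  refine full_locGood ?_
  rw [eq_top_iff]
  intro x _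
  have hx : ι x ∈ ⨆ i, U i := by rw [hU]; trivial
  obtain ⟨i, hi⟩ := Opens.mem_iSup.1 hx
  exact Opens.mem_iSup.2 ⟨i, hi⟩

end cover

section hom

variable {k : Type u} [Field k] {X Y : Scheme.{u}} {g : X ⟶ Spec (CommRingCat.of k)}

theorem acyclic_of_iso {X : TopCat.{u}} {D : Data X} {F G : Sheaf (Opens.grothendieckTopology X) AddCommGrpCat.{u}}
    (e : F ≅ G) (h : D.Acyclic G) : D.Acyclic F := by
  intro k b q
  have := h k b q
  refine ⟨fun x y => ?_⟩
  have key : ∀ x : Abelian.Ext ((presheafToSheaf (Opens.grothendieckTopology X) AddCommGrpCat.{u}).obj (Data.freeP (D.W k b)))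
      F (q + 1), x = 0 := by
    intro x
    have h1 : x.comp (Abelian.Ext.mk₀ e.hom) (add_zero _) = 0 := Subsingleton.elim _ _
    have h2 := congrArg (fun t => Abelian.Ext.comp t (Abelian.Ext.mk₀ e.inv) (add_zero _)) h1
    simpa using h2
  rw [key x, key y]

theorem acyclic_term [QuasiSeparated g] (DX : DeRhamSh.OmegaCx g) (D : Data X.toTopCat)
    (hW : ∀ n b, IsAffineOpen (X := X) (D.W n b)) (a : ℕ) : D.Acyclic (DX.K.X a) :=
  acyclic_of_iso (DX.iso a) (CombMod.acyclic D (AffCompare.isQCoh_term g DX a) hW)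

theorem isB_iff {X : TopCat.{u}} {D : Data X} {K : CochainComplex (Sheaf (Opens.grothendieckTopology X) AddCommGrpCat.{u}) ℕ}
    (n : ℕ) (x : T D K n) : IsB D K n x ↔ Quot.B (dT D K) n x := by
  cases n <;> rfl

variable (ι : Y ⟶ X) [IsClosedImmersion ι] [QuasiSeparated g] [QuasiSeparated (ι ≫ g)] [CharZero k]
  [Smooth g] [Smooth (ι ≫ g)]
  (DX : DeRhamSh.OmegaCx g) (DY : DeRhamSh.OmegaCx (ι ≫ g))
  (hX : KLinDR.TermwiseLinear (Coh.toGlobal g) DX.K DX.term DX.iso)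
  (hY : KLinDR.TermwiseLinear (Coh.toGlobal (ι ≫ g)) DY.K DY.term DY.iso)
  [HasDerivedCategory.{w} (Sheaf (Opens.grothendieckTopology X) AddCommGrpCat.{u})]
  [HasDerivedCategory.{w} (Sheaf (Opens.grothendieckTopology Y) AddCommGrpCat.{u})]

/-- the class of a total cocycle -/
noncomputable def cls {Z : Scheme.{u}} {f : Z ⟶ Spec (CommRingCat.of k)} [QuasiSeparated f] (DZ : DeRhamSh.OmegaCx f)
    (hZ : KLinDR.TermwiseLinear (Coh.toGlobal f) DZ.K DZ.term DZ.iso)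
    [iZ : HasDerivedCategory.{w} (Sheaf (Opens.grothendieckTopology Z) AddCommGrpCat.{u})]
    (D : Data Z.toTopCat) (hD : D.LocGood) (n : ℕ) : (dT D DZ.K n).ker →+ KLinDR.HdR (Coh.toGlobal f) DZ hZ (n : ℤ) :=
  letI : HasDerivedCategory.{w} (Sheaf (Opens.grothendieckTopology Z.toTopCat) AddCommGrpCat.{u}) := iZ
  (KLinDR.HTρ.toHT.symm.toAddMonoidHom).comp (clsT hD DZ.K n)

theorem cls_smul {Z : Scheme.{u}} {f : Z ⟶ Spec (CommRingCat.of k)} [QuasiSeparated f] (DZ : DeRhamSh.OmegaCx f)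
    (hZ : KLinDR.TermwiseLinear (Coh.toGlobal f) DZ.K DZ.term DZ.iso)
    [iZ : HasDerivedCategory.{w} (Sheaf (Opens.grothendieckTopology Z) AddCommGrpCat.{u})]
    (D : Data Z.toTopCat) (hD : D.LocGood) (n : ℕ) (c : k) (x : (dT D DZ.K n).ker) :
    c • cls DZ hZ D hD n x = cls DZ hZ D hD n (mapZ (KLinDR.scalarN hZ c : DZ.K ⟶ DZ.K) n x) := by
  let _ : HasDerivedCategory.{w} (Sheaf (Opens.grothendieckTopology Z.toTopCat) AddCommGrpCat.{u}) := iZ
  have h1 := clsT_naturality hD (KLinDR.scalarN hZ c : DZ.K ⟶ DZ.K) n x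
  exact h1.symm

theorem cls_surjective {Z : Scheme.{u}} {f : Z ⟶ Spec (CommRingCat.of k)} [QuasiSeparated f] (DZ : DeRhamSh.OmegaCx f)
    (hZ : KLinDR.TermwiseLinear (Coh.toGlobal f) DZ.K DZ.term DZ.iso)
    [iZ : HasDerivedCategory.{w} (Sheaf (Opens.grothendieckTopology Z) AddCommGrpCat.{u})]
    (D : Data Z.toTopCat) (hD : D.LocGood) (hW : ∀ n b, IsAffineOpen (X := Z) (D.W n b)) (n : ℕ) :
    Function.Surjective (cls DZ hZ D hD n) := by
  let _ : HasDerivedCategory.{w} (Sheaf (Opens.grothendieckTopology Z.toTopCat) AddCommGrpCat.{u}) := iZ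
  exact KLinDR.HTρ.toHT.symm.surjective.comp (clsT_surjective hD (acyclic_term DZ D hW) n)

theorem cls_eq_zero_iff {Z : Scheme.{u}} {f : Z ⟶ Spec (CommRingCat.of k)} [QuasiSeparated f] (DZ : DeRhamSh.OmegaCx f)
    (hZ : KLinDR.TermwiseLinear (Coh.toGlobal f) DZ.K DZ.term DZ.iso)
    [iZ : HasDerivedCategory.{w} (Sheaf (Opens.grothendieckTopology Z) AddCommGrpCat.{u})]
    (D : Data Z.toTopCat) (hD : D.LocGood) (hW : ∀ n b, IsAffineOpen (X := Z) (D.W n b)) (n : ℕ)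
    (x : (dT D DZ.K n).ker) : cls DZ hZ D hD n x = 0 ↔ Quot.B (dT D DZ.K) n x.1 := by
  let _ : HasDerivedCategory.{w} (Sheaf (Opens.grothendieckTopology Z.toTopCat) AddCommGrpCat.{u}) := iZ
  rw [← isB_iff, ← clsT_eq_zero_iff hD (acyclic_term DZ D hW) n x]
  exact KLinDR.HTρ.toHT.symm.map_eq_zero_iff

/-- **The restriction map in low degrees.** -/
theorem exists_restr_of_data (D : Data X.toTopCat) (hD : D.LocGood) (hD' : (comap ι D).LocGood)
    (hW : ∀ n b, IsAffineOpen (X := X) (D.W n b)) (N : ℕ) (hp : ∀ a b, a + b ≤ N → Pro ι g DX a b) (n : ℕ) (hn : n ≤ N) :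
    ∃ φ : KLinDR.HdR (Coh.toGlobal g) DX hX (n : ℤ) →ₗ[k] KLinDR.HdR (Coh.toGlobal (ι ≫ g)) DY hY (n : ℤ),
      Function.Injective φ ∧ (n + 1 ≤ N → Function.Surjective φ) := by
  obtain ⟨MX⟩ := exists_mod g DX
  obtain ⟨MY⟩ := exists_mod (ι ≫ g) DY
  have hpv := fun a b (hab : a + b ≤ N) => isRowB ι D hD hW a b (hp a b hab)
  have hW' : ∀ n b, IsAffineOpen (X := Y) ((comap ι D).W n b) := fun n b => (hW n b).preimage ι
  obtain ⟨φ, hφ, hφi, hφs⟩ := Quot.exists_hom (d := dT D DX.K) (d' := dT (comap ι D) DY.K)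
    (rT ι MX MY D hW) (fun n x => rT_dT ι MX MY D hW n x) (fun n x => Chase.dT_dT x) (rT_surjective ι MX MY D hW) N
    (fun x hx hx' => vanish_zero ι MX MY D hW N hpv x hx hx')
    (fun n hn x hx hx' => vanish_succ ι MX MY D hW N hpv n hn x hx hx') n hn
    (cls DX hX D hD n) (cls DY hY (comap ι D) hD' n) (cls_surjective DX hX D hD hW n)
    (cls_surjective DY hY (comap ι D) hD' hW' n) (cls_eq_zero_iff DX hX D hD hW n)
    (cls_eq_zero_iff DY hY (comap ι D) hD' hW' n)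
  refine ⟨{ φ with map_smul' := fun c x => ?_ }, hφi, hφs⟩
  change φ (c • x) = c • φ x
  obtain ⟨z, rfl⟩ := cls_surjective DX hX D hD hW n x
  rw [cls_smul, hφ, hφ, cls_smul]
  congr 1
  exact Subtype.ext (rT_scalar ι MX MY D hW hX hY n c z.1)

end hom

end K853.Lef.Main
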