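import Groth.Agent.DeRhamSh.K853.CxAff

/-!
# The ring-level model of a de Rham complex, naturally in the affine open
-/

set_option autoImplicit false

universe w u

open CategoryTheory CategoryTheory.Limits AlgebraicGeometry Opposite TopologicalSpace exteriorPower

namespace K853.Lef.Model

open Groth.Agent.Lefpen.H721.OmegaSec Groth.Agent.Lefpen.H721.OmegaPow Groth.Agent.CurvesB.OmegaStalkDict
open Groth.Agent.Sga67.Sec K853.CxAff

variable {A : Type u} [CommRing A] {X : Scheme.{u}} (f : X ⟶ Spec (CommRingCat.of A))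
variable [QuasiSeparated f] (D : DeRhamSh.OmegaCx f)

/-- The type of differentials on the forms of `Γ(X, W)`. -/
abbrev DTy (W : X.Opens) : Type u := ∀ p : ℕ,
    ↥(⋀[SA f W]^p (Ω[SA f W⁄A])) →ₗ[A] ↥(⋀[SA f W]^(p + 1) (Ω[SA f W⁄A]))

/-- The family is the de Rham family. -/
def IsD (W : X.Opens) (d : DTy f W) : Prop := DeRham.IsDiff (KaehlerDifferential.D A (SA f W)) d

/-- The ring-level model: forms of `Γ(X, W)` are sections of the terms, compatibly with differentials and
restrictions. -/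
structure Mod where
  E : ∀ (p : ℕ) (W : X.affineOpens), ⋀[SA f W.1]^p Ω[SA f W.1⁄A] ≃ₗ[SA f W.1] Γ(D.term p, W.1)
  d : ∀ (W : X.affineOpens), DTy f W.1
  isDiff : ∀ W : X.affineOpens, IsD f W.1 (d W)
  res : ∀ (p : ℕ) (W W' : X.affineOpens) (h : W'.1 ≤ W.1) (x : ⋀[SA f W.1]^p Ω[SA f W.1⁄A]),
    (D.term p).presheaf.map (homOfLE h).op (E p W x) = E p W' (powS (resA f h) p x)
  comm : ∀ (p : ℕ) (W : X.affineOpens) (x : ⋀[SA f W.1]^p Ω[SA f W.1⁄A]),
    dSec D W.1 p (E p W x) = E (p + 1) W (d W p x)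

theorem exists_mod : Nonempty (Mod f D) := by
  have : QuasiCompact (pullback.diagonal f) := inferInstance
  choose E hE using fun p (W : X.affineOpens) => exists_ext_equiv f (j := p) (L := D.term p) (D.loc p) W
  have hb : ∀ (W : X.Opens) (s : Γ(X, W)), (OmegaSh.dOmega f).app W s = Groth.Agent.CurvesB.OmegaDer.d f W s :=
    fun W => OmegaBridge.dOmega_app_eq f W
  have key : ∀ W : X.affineOpens, ∃ d : ∀ p : ℕ,
      ↥(⋀[SA f W.1]^p (Ω[SA f W.1⁄A])) →ₗ[A] ↥(⋀[SA f W.1]^(p + 1) (Ω[SA f W.1⁄A])),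
      DeRham.IsDiff (KaehlerDifferential.D A (SA f W.1)) d ∧
      ∀ (p : ℕ) (x : ⋀[SA f W.1]^p Ω[SA f W.1⁄A]), dSec D W.1 p (E p W x) = E (p + 1) W (d p x) := by
    intro W
    have hgen : Submodule.span (SA f W.1) (Set.range (KaehlerDifferential.D A (SA f W.1))) = ⊤ :=
      KaehlerDifferential.span_range_derivation A (SA f W.1)
    have hE' : ∀ (p : ℕ) (b₀ : Γ(X, W.1)) (b : Fin p → Γ(X, W.1)),
        E p W (DeRham.gen (KaehlerDifferential.D A (SA f W.1)) p b₀ b) =
          (D.loc p W).symm (b₀ • ιMulti Γ(X, W.1) p (fun i => (OmegaSh.dOmega f).app W.1 (b i))) := by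
      intro p b₀ b
      simp only [hb]
      have key : ∀ c : SA f W.1, E p W (c • ιMulti (SA f W.1) p (fun i => KaehlerDifferential.D A (SA f W.1) (b i))) =
          c • E p W (ιMulti (SA f W.1) p (fun i => KaehlerDifferential.D A (SA f W.1) (b i))) :=
        fun c => map_smul (E p W) c _
      refine (key b₀).trans ?_
      rw [hE, map_smul]
      rfl
    have hE1 : ∀ (p : ℕ) (b₀ : Γ(X, W.1)) (b : Fin p → Γ(X, W.1)),
        (E (p + 1) W).symm ((D.loc (p + 1) W).symm (ιMulti Γ(X, W.1) (p + 1)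
          (Fin.cons ((OmegaSh.dOmega f).app W.1 b₀) (fun i => (OmegaSh.dOmega f).app W.1 (b i))))) =
        ιMulti (SA f W.1) (p + 1) (Fin.cons (KaehlerDifferential.D A (SA f W.1) b₀)
          (fun i => KaehlerDifferential.D A (SA f W.1) (b i))) := by
      intro p b₀ b
      rw [LinearEquiv.symm_apply_eq]
      have h1 := hE (p + 1) W (Fin.cons b₀ b : Fin (p + 1) → Γ(X, W.1))
      have h2 : (fun l : Fin (p + 1) => KaehlerDifferential.D A (SA f W.1) ((Fin.cons b₀ b : Fin (p + 1) → Γ(X, W.1)) l)) =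
          Fin.cons (KaehlerDifferential.D A (SA f W.1) b₀) (fun i => KaehlerDifferential.D A (SA f W.1) (b i)) := by
        funext l
        refine Fin.cases ?_ (fun i => ?_) l <;> rfl
      have h3 : (fun l : Fin (p + 1) => (Groth.Agent.CurvesB.OmegaDer.d f W.1
          ((Fin.cons b₀ b : Fin (p + 1) → Γ(X, W.1)) l) : Γ(Omega.sheaf f, W.1))) =
          Fin.cons ((OmegaSh.dOmega f).app W.1 b₀) (fun i => (OmegaSh.dOmega f).app W.1 (b i)) := by
        funext l
        refine Fin.cases ?_ (fun i => ?_) l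
        · exact (hb W.1 b₀).symm
        · exact (hb W.1 (b i)).symm
      rw [h2] at h1
      rw [h1]
      exact congrArg (fun z => (D.loc (p + 1) W).symm (ιMulti Γ(X, W.1) (p + 1) z)) h3.symm
    obtain ⟨d, hd, hd'⟩ := RingCx.exists_linear (R := A) hgen
      (fun p => (E (p + 1) W).symm.toLinearMap.toAddMonoidHom.comp
        ((dSec D W.1 p).comp (E p W).toLinearMap.toAddMonoidHom))
      (fun p b₀ b => by
        change (E (p + 1) W).symm (dSec D W.1 p (E p W _)) = _
        rw [hE' p b₀ b]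
        have h1 := dSec_rule D W p b₀ b
        exact (congrArg (E (p + 1) W).symm h1).trans (hE1 p b₀ b))
    refine ⟨d, hd', fun p x => ?_⟩
    rw [hd p]
    change _ = E (p + 1) W ((E (p + 1) W).symm (dSec D W.1 p (E p W x)))
    rw [LinearEquiv.apply_symm_apply]
  choose d hd hcomm using key
  refine ⟨⟨E, d, hd, ?_, fun p W x => hcomm W p x⟩⟩
  intro p W W' h x
  have key : (((D.term p).presheaf.map (homOfLE h).op).hom.comp (E p W).toLinearMap.toAddMonoidHom) =
      ((E p W').toLinearMap.toAddMonoidHom.comp (powS (resA f h) p).toAddMonoidHom) := by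
    apply add_hom_ext
    intro b a
    change Groth.Agent.Sga67.Sec.res (D.term p) h (E p W (b • _)) = E p W' (powS (resA f h) p (b • _))
    rw [map_smul, LinearMap.map_smulₛₗ, map_smul, powS_D]
    refine (congrArg (fun y : Sec (D.term p) W.1 => Groth.Agent.Sga67.Sec.res (D.term p) h
      ((show Γ(X, W.1) from b) • y)) (hE p W a)).trans ?_
    have h1 := hE p W' (fun l => X.presheaf.map (homOfLE h).op (a l))
    have h2 : (E p W') (exteriorPower.ιMulti (SA f W'.1) p
        (fun l => KaehlerDifferential.D A (SA f W'.1) ((resA f h) (a l)))) = _ := h1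
    refine Eq.trans ?_ (congrArg (fun y => (resA f h b) • y) h2.symm)
    have h3 := res_smul (D.term p) h b ((D.loc p W).symm (exteriorPower.ιMulti Γ(X, W.1) p
      (fun l => (Groth.Agent.CurvesB.OmegaDer.d f W.1 (a l) : Sec (Omega.sheaf f) W.1))))
    refine h3.trans ?_
    have hφ' : PhiComp (E := Omega.sheaf f) (D.loc p) := D.loc_res p
    have h4 : ∀ l, Groth.Agent.Sga67.Sec.res (Omega.sheaf f) h (Groth.Agent.CurvesB.OmegaDer.d f W.1 (a l)) =
        Groth.Agent.CurvesB.OmegaDer.d f W'.1 (X.presheaf.map (homOfLE h).op (a l)) :=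
      fun l => Groth.Agent.CurvesB.OmegaDer.d_res f h (a l)
    have h5 := hφ' W W' h (fun l => (Groth.Agent.CurvesB.OmegaDer.d f W.1 (a l) : Sec (Omega.sheaf f) W.1))
    simp only [h4] at h5
    exact congrArg (fun y : Sec (D.term p) W'.1 => resO X h b • y) h5
  exact DFunLike.congr_fun key x

end K853.Lef.Model
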