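import Groth.Agent.DeRhamSh.K853.Lef.TotLef
import Groth.Agent.DeRhamSh.K853.AffCompare
import Groth.Agent.Dual.H367.IdMul
import Groth.Agent.Ega3B.CombMod
import Groth.Agent.CohqB.QC4

/-!
# Pro-vanishing of the rows from pro-vanishing of cohomology
-/

set_option autoImplicit false
set_option linter.unusedSectionVars false

universe w u

open CategoryTheory CategoryTheory.Limits AlgebraicGeometry Opposite TopologicalSpace exteriorPower

namespace K853.Lef.ProC

open Groth.Agent.Lefpen.H721.OmegaSec Groth.Agent.Lefpen.H721.OmegaPow Groth.Agent.CurvesB.OmegaStalkDict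
open Groth.Agent.Sga67.Sec K853.CxAff K853.Lef.Model K853.Lef.Restr K853.Lef.Chase K853.Lef.CechLef K853.Lef.TotLef
open Groth.Agent.Ega3B Groth.Agent.Ega3B.CombRes K890.CechHT Groth.Agent.Dual.H367.IdMul

attribute [local instance 3000] LocExact.hasSheafify

variable {k : Type u} [Field k] {X Y : Scheme.{u}} {g : X ⟶ Spec (CommRingCat.of k)} (ι : Y ⟶ X)
  [IsClosedImmersion ι] [QuasiSeparated g]
  {DX : DeRhamSh.OmegaCx g} (D : Data X.toTopCat) (hD : D.LocGood) (hW : ∀ n b, IsAffineOpen (X := X) (D.W n b))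

/-- pro-vanishing of cohomology -/
def Pro (g : X ⟶ Spec (CommRingCat.of k)) [QuasiSeparated g] (DX : DeRhamSh.OmegaCx g) (a b : ℕ) : Prop :=
  ∀ m : ℕ, ∃ m' : ℕ, m ≤ m' ∧
    ∀ t : (Dual3.idealMul (ι.ker ^ m')).obj (DX.term a) ⟶ (Dual3.idealMul (ι.ker ^ m)).obj (DX.term a),
      t ≫ Dual3.idealMulι (ι.ker ^ m) (DX.term a) = Dual3.idealMulι (ι.ker ^ m') (DX.term a) →
        ∀ x : Coh.HH X ((Dual3.idealMul (ι.ker ^ m')).obj (DX.term a)) b,
          Sheaf.H.map ((SheafOfModules.toSheaf X.ringCatSheaf).map t) b x = 0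

/-- cochains of the submodules as cochains of the complex -/
noncomputable def inc (a b m : ℕ) :
    D.K b (Coh.toAb ((Dual3.idealMul (ι.ker ^ m)).obj (DX.term a))).obj →+ D.K b (DX.K.X a).obj :=
  D.Kmap b ((SheafOfModules.toSheaf X.ringCatSheaf).map (Dual3.idealMulι (ι.ker ^ m) (DX.term a)) ≫ (DX.iso a).inv).hom

theorem inc_apply (a b m : ℕ) (x : D.K b (Coh.toAb ((Dual3.idealMul (ι.ker ^ m)).obj (DX.term a))).obj) (β : D.B b) :
    toS DX a (D.W b β) (inc (DX := DX) ι D a b m x β) = (Dual3.idealMulι (ι.ker ^ m) (DX.term a)).app (D.W b β) (x β) :=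
  (toS DX a (D.W b β)).apply_symm_apply _

theorem inc_mem (a b m e : ℕ) (he : m - a = e) (x : D.K b (Coh.toAb ((Dual3.idealMul (ι.ker ^ e)).obj (DX.term a))).obj) :
    inc (DX := DX) ι D a b e x ∈ L (DX := DX) ι D hW m a b := by
  subst he
  intro β
  rw [inc_apply]
  exact app_mem (ι.ker ^ (m - a)) (AffCompare.isQCoh_term g DX a) (WA D hW b β) (x β)

theorem exists_inc_eq (a b m e : ℕ) (he : m - a = e) (x : D.K b (DX.K.X a).obj)
    (hx : x ∈ L (DX := DX) ι D hW m a b) : ∃ y, inc (DX := DX) ι D a b e y = x := by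
  subst he
  have key : ∀ β : D.B b, ∃ t : Γ((Dual3.idealMul (ι.ker ^ (m - a))).obj (DX.term a), D.W b β),
      (Dual3.idealMulι (ι.ker ^ (m - a)) (DX.term a)).app (D.W b β) t = toS DX a (D.W b β) (x β) := fun β =>
    exists_app_eq (ι.ker ^ (m - a)) (WA D hW b β) _ (hx β)
  choose t ht using key
  let t' : D.K b (Coh.toAb ((Dual3.idealMul (ι.ker ^ (m - a))).obj (DX.term a))).obj := t
  refine ⟨t', funext fun β => ?_⟩
  apply (toS DX a (D.W b β)).injective
  rw [inc_apply]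
  exact ht β

theorem inc_injective (a b m : ℕ) : Function.Injective (inc (DX := DX) ι D a b m) := by
  intro x y h
  funext β
  have h1 : toS DX a (D.W b β) (inc (DX := DX) ι D a b m x β) =
    toS DX a (D.W b β) (inc (DX := DX) ι D a b m y β) := congrArg (fun t => toS DX a (D.W b β) (t β)) h
  rw [inc_apply, inc_apply] at h1
  exact Groth.Agent.CohqB.QC4.app_injective_of_mono (Dual3.idealMulι (ι.ker ^ m) (DX.term a)) (D.W b β) h1

theorem inc_dv (a b m : ℕ) (x : D.K b (Coh.toAb ((Dual3.idealMul (ι.ker ^ m)).obj (DX.term a))).obj) :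
    dv D DX.K a b (inc (DX := DX) ι D a b m x) = inc (DX := DX) ι D a (b + 1) m (D.δ b _ x) :=
  D.δ_naturality b _ x

theorem inc_map (a b m m' : ℕ)
    (t : (Dual3.idealMul (ι.ker ^ m')).obj (DX.term a) ⟶ (Dual3.idealMul (ι.ker ^ m)).obj (DX.term a))
    (ht : t ≫ Dual3.idealMulι (ι.ker ^ m) (DX.term a) = Dual3.idealMulι (ι.ker ^ m') (DX.term a))
    (x : D.K b (Coh.toAb ((Dual3.idealMul (ι.ker ^ m')).obj (DX.term a))).obj) :
    inc (DX := DX) ι D a b m (D.Kmap b ((SheafOfModules.toSheaf X.ringCatSheaf).map t).hom x) =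
      inc (DX := DX) ι D a b m' x := by
  have h1 : (SheafOfModules.toSheaf X.ringCatSheaf).map t ≫
      (SheafOfModules.toSheaf X.ringCatSheaf).map (Dual3.idealMulι (ι.ker ^ m) (DX.term a)) ≫ (DX.iso a).inv =
      (SheafOfModules.toSheaf X.ringCatSheaf).map (Dual3.idealMulι (ι.ker ^ m') (DX.term a)) ≫ (DX.iso a).inv :=
    (Category.assoc _ _ _).symm.trans (congrArg (· ≫ (DX.iso a).inv)
      (((SheafOfModules.toSheaf X.ringCatSheaf).map_comp t _).symm.trans
        (congrArg (SheafOfModules.toSheaf X.ringCatSheaf).map ht)))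
  exact congrArg (fun φ : Coh.toAb ((Dual3.idealMul (ι.ker ^ m')).obj (DX.term a)) ⟶ DX.K.X a =>
    D.Kmap b φ.hom x) h1

include hD in
theorem isRowB (a b : ℕ) (hp : Pro ι g DX a b) (m : ℕ) : ∃ m', m ≤ m' ∧ ∀ x ∈ L (DX := DX) ι D hW m' a b,
    dv D DX.K a b x = 0 → IsRowB (L (DX := DX) ι D hW) m a b x := by
  obtain ⟨e, he⟩ : ∃ e, m - a = e := ⟨_, rfl⟩
  obtain ⟨m', hm, h⟩ := hp e
  refine ⟨m' + a, by omega, fun x hx hdx => ?_⟩
  obtain ⟨y, rfl⟩ := exists_inc_eq ι D hW a b (m' + a) m' (by omega) x hx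
  rw [inc_dv] at hdx
  have hy : D.δ b _ y = 0 := inc_injective ι D a (b + 1) _ (hdx.trans (map_zero _).symm)
  have hle : ι.ker ^ m' ≤ ι.ker ^ e := fun U => by
    change ι.ker.ideal U ^ m' ≤ ι.ker.ideal U ^ e
    exact Ideal.pow_le_pow_right hm
  have hvan := h (tr hle (DX.term a)) (tr_ι hle (DX.term a))
  have hq : Coh.IsQCoh ((Dual3.idealMul (ι.ker ^ e)).obj (DX.term a)) :=
    isQCoh_idealMul _ (AffCompare.isQCoh_term g DX a)
  have hac := CombMod.acyclic D hq hW
  let z : (D.δ b (Coh.toAb ((Dual3.idealMul (ι.ker ^ m')).obj (DX.term a))).obj).ker := ⟨y, hy⟩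
  have hθ := CombRes.Data.θ_naturality hD b ((SheafOfModules.toSheaf X.ringCatSheaf).map (tr hle (DX.term a))) z
  have hθ' : CombRes.Data.θ (Coh.toAb ((Dual3.idealMul (ι.ker ^ e)).obj (DX.term a))) hD b
      (D.kerMap b ((SheafOfModules.toSheaf X.ringCatSheaf).map (tr hle (DX.term a))).hom z) = 0 :=
    hθ.trans (hvan _)
  cases b with
  | zero =>
    change inc ι D a 0 m' y = 0
    have h1 := CombRes.Data.θ_zero_injective hD (hθ'.trans (map_zero _).symm)
    have h2 : D.Kmap 0 ((SheafOfModules.toSheaf X.ringCatSheaf).map (tr hle (DX.term a))).hom y = 0 :=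
      congrArg Subtype.val h1
    rw [← inc_map ι D a 0 e m' (tr hle (DX.term a)) (tr_ι hle (DX.term a)) y, h2, map_zero]
  | succ b =>
    obtain ⟨w, hw⟩ := (CombRes.Data.θ_eq_zero_iff hD hac b _).1 hθ'
    refine ⟨inc ι D a b e w, inc_mem ι D hW a b m e he w, ?_⟩
    rw [inc_dv, hw]
    exact inc_map ι D a (b + 1) e m' (tr hle (DX.term a)) (tr_ι hle (DX.term a)) y

end K853.Lef.ProC
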