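import Mathlib.RingTheory.Smooth.Kaehler
import Mathlib.RingTheory.Smooth.Basic

/-!
# A vector field contracting to a smooth closed subscheme
-/

set_option autoImplicit false
universe u

namespace K853.Lef.Split

open KaehlerDifferential TensorProduct

variable (k B C : Type u) [CommRing k] [CommRing B] [CommRing C] [Algebra k B] [Algebra k C] [Algebra B C]
  [IsScalarTower k B C]

/-- For `B` and `C = B / I` smooth there is `φ : Ω_B → I` with `φ (dx) = x` modulo `I ^ 2`. -/
theorem exists_dual [Algebra.FormallySmooth k B] [Algebra.FormallySmooth k C]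
    (hs : Function.Surjective (algebraMap B C)) :
    ∃ φ : Ω[B⁄k] →ₗ[B] B, (∀ m, φ m ∈ RingHom.ker (algebraMap B C)) ∧
      ∀ x ∈ RingHom.ker (algebraMap B C), φ (D k B x) - x ∈ (RingHom.ker (algebraMap B C)) ^ 2 := by
  obtain ⟨l, hl⟩ := (Algebra.FormallySmooth.iff_split_injection (R := k) (P := B) (A := C) hs).1 inferInstance
  let I := RingHom.ker (algebraMap B C)
  let ψ : Ω[B⁄k] →ₗ[B] I.Cotangent := l.comp (TensorProduct.mk B C (Ω[B⁄k]) 1)
  obtain ⟨φ₀, hφ₀⟩ := Module.projective_lifting_property I.toCotangent ψ I.toCotangent_surjective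
  refine ⟨I.subtype.comp φ₀, fun m => (φ₀ m).2, fun x hx => ?_⟩
  have h1 : I.toCotangent (φ₀ (D k B x)) = I.toCotangent ⟨x, hx⟩ := by
    have h2 : I.toCotangent (φ₀ (D k B x)) = ψ (D k B x) := congr($(hφ₀) (D k B x))
    rw [h2]
    have h3 := congr($(hl) (I.toCotangent ⟨x, hx⟩))
    rw [LinearMap.comp_apply, LinearMap.id_apply] at h3
    rw [← h3]
    rfl
  exact (Ideal.toCotangent_eq I).1 h1

end K853.Lef.Split
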