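import Groth.Agent.DeRhamSh.K853.Lef.Euler
import Groth.Agent.DeRhamSh.K853.Lef.Split
import Groth.Agent.DeRhamSh.K853.Lef.ExtKer

/-!
# The ring-level Lefschetz lemma

`q : B → C` surjective, `B` and `C` formally smooth over a field of characteristic zero, `I = ker q`: the
inclusion of `I ^ (N - p) ⋀^p Ω_B` in the kernel of `⋀^p Ω_B → ⋀^p Ω_C` is a quasi-isomorphism.
-/

set_option autoImplicit false
set_option linter.unusedSectionVars false
universe u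

namespace K853.Lef.RingLef

open K852.DR exteriorPower Groth.Agent.Lefpen.H721.OmegaPow K853.Lef.Euler

variable {k : Type u} {B C : Type u} [Field k] [CharZero k] [CommRing B] [CommRing C] [Algebra k B] [Algebra k C]
  (q : B →ₐ[k] C)
  {d : ∀ p : ℕ, ↥(⋀[B]^p (Ω[B⁄k])) →ₗ[k] ↥(⋀[B]^(p + 1) (Ω[B⁄k]))}
  (hd : DeRham.IsDiff (KaehlerDifferential.D k B) d)

include hd in
theorem d_Fil (J : Ideal B) {p a : ℕ} {x : ↥(⋀[B]^p (Ω[B⁄k]))} (hx : x ∈ Fil J p (a + 1)) :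
    d p x ∈ Fil J (p + 1) a :=
  d_FilK (kaehler_span k B) hd.1 hx

include hd in
/-- The same, with truncated exponents. -/
theorem d_Fil' (J : Ideal B) {p m : ℕ} {x : ↥(⋀[B]^p (Ω[B⁄k]))} (hx : x ∈ Fil J p (m - p)) :
    d p x ∈ Fil J (p + 1) (m - (p + 1)) := by
  by_cases h : p < m
  · obtain ⟨c, rfl⟩ : ∃ c, m = p + 1 + c := ⟨m - (p + 1), by omega⟩
    have h1 : p + 1 + c - p = c + 1 := by omega
    have h2 : p + 1 + c - (p + 1) = c := by omega
    rw [h1] at hx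
    rw [h2]
    exact d_Fil hd J hx
  · have h1 : m - (p + 1) = 0 := by omega
    rw [h1]
    change _ ∈ (J ^ 0 • ⊤ : Submodule B _)
    rw [pow_zero, Ideal.one_eq_top, Submodule.top_smul]
    trivial

theorem powS_eq_zero_of_mem {p a : ℕ} (ha : 1 ≤ a) {x : ↥(⋀[B]^p (Ω[B⁄k]))}
    (hx : x ∈ Fil (RingHom.ker (q : B →+* C)) p a) : powS q p x = 0 :=
  ExtKer.powS_Fil_one q p x (Fil_anti _ ha hx)

variable [Algebra.FormallySmooth k B] [Algebra.FormallySmooth k C]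
  (hq : Function.Surjective q)

include hq in
theorem exists_dual : ∃ φ : Ω[B⁄k] →ₗ[B] B, (∀ m, φ m ∈ RingHom.ker (q : B →+* C)) ∧
      ∀ x ∈ RingHom.ker (q : B →+* C), φ (KaehlerDifferential.D k B x) - x ∈ (RingHom.ker (q : B →+* C)) ^ 2 := by
  let : Algebra B C := q.toRingHom.toAlgebra
  have : IsScalarTower k B C := IsScalarTower.of_algebraMap_eq (fun r => (q.commutes r).symm)
  exact Split.exists_dual k B C hq

include hd hq in
theorem zero (N : ℕ) {x : ↥(⋀[B]^0 (Ω[B⁄k]))} (hx : powS q 0 x = 0)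
    (hdx : d 0 x ∈ Fil (RingHom.ker (q : B →+* C)) 1 N) : x ∈ Fil (RingHom.ker (q : B →+* C)) 0 (N + 1) := by
  obtain ⟨φ, hφ, hφ'⟩ := exists_dual q hq
  exact main_zero (kaehler_span k B) hd.1 φ hφ hφ' N (ExtKer.mem_G_of_powS_eq_zero q hq 0 x hx) hdx

include hd hq in
theorem succ (p N : ℕ) {x : ↥(⋀[B]^(p + 1) (Ω[B⁄k]))} (hx : powS q (p + 1) x = 0)
    (hdx : d (p + 1) x ∈ Fil (RingHom.ker (q : B →+* C)) (p + 2) N) :
    ∃ u : ↥(⋀[B]^p (Ω[B⁄k])), powS q p u = 0 ∧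
      x - d p u ∈ Fil (RingHom.ker (q : B →+* C)) (p + 1) (N + 1) := by
  obtain ⟨φ, hφ, hφ'⟩ := exists_dual q hq
  obtain ⟨u, hu, h⟩ := main_succ (kaehler_span k B) hd.1 φ hφ hφ' p N
    (ExtKer.mem_G_of_powS_eq_zero q hq (p + 1) x hx) hdx
  exact ⟨u, ExtKer.powS_eq_zero_of_mem_G q p u hu, h⟩

end K853.Lef.RingLef
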