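import Groth.Agent.DeRhamSh.K853.Lef.Model
import Groth.Agent.DeRhamSh.K853.Lef.RingLef
import Mathlib.AlgebraicGeometry.Morphisms.Smooth
import Mathlib.AlgebraicGeometry.Morphisms.ClosedImmersion

/-!
# The restriction of forms to a closed subscheme, on sections over affine opens
-/

set_option autoImplicit false

universe w u

open CategoryTheory CategoryTheory.Limits AlgebraicGeometry Opposite TopologicalSpace exteriorPower

namespace K853.Lef.Restr

open Groth.Agent.Lefpen.H721.OmegaSec Groth.Agent.Lefpen.H721.OmegaPow Groth.Agent.CurvesB.OmegaStalkDict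
open Groth.Agent.Sga67.Sec K853.CxAff K853.Lef.Model

section Alg

variable {k : Type u} [CommRing k] {X Y : Scheme.{u}} (g : X ⟶ Spec (CommRingCat.of k)) (ι : Y ⟶ X)

theorem app_secHom (W : X.Opens) (a : k) : ι.app W (secHom g W a) = secHom (ι ≫ g) (ι ⁻¹ᵁ W) a := by
  have h1 : g.appLE ⊤ W le_top ≫ ι.appLE W (ι ⁻¹ᵁ W) le_rfl = (ι ≫ g).appLE ⊤ (ι ⁻¹ᵁ W) le_top :=
    Scheme.Hom.appLE_comp_appLE _ _ _ _ _ _ _
  rw [secHom_eq, secHom_eq, ← h1, Scheme.Hom.app_eq_appLE]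
  rfl

/-- Pullback of functions. -/
noncomputable def pullA (W : X.Opens) : SA g W →ₐ[k] SA (ι ≫ g) (ι ⁻¹ᵁ W) :=
  { (ι.app W).hom with
    commutes' := fun a => app_secHom g ι W a }

theorem pullA_apply (W : X.Opens) (s : Γ(X, W)) : pullA g ι W s = ι.app W s := rfl

theorem preimage_le {W W' : X.Opens} (h : W' ≤ W) : ι ⁻¹ᵁ W' ≤ ι ⁻¹ᵁ W := fun _ hx => h hx

theorem pullA_res {W W' : X.Opens} (h : W' ≤ W) (s : SA g W) :
    pullA g ι W' (resA g h s) = resA (ι ≫ g) (preimage_le ι h) (pullA g ι W s) :=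
  congr($(ι.naturality (homOfLE h).op) s)

theorem pullA_surjective [IsClosedImmersion ι] {W : X.Opens} (hW : IsAffineOpen W) :
    Function.Surjective (pullA g ι W) := ι.app_surjective W hW

theorem ker_pullA [QuasiCompact ι] (W : X.affineOpens) :
    RingHom.ker (pullA g ι W.1 : SA g W.1 →+* SA (ι ≫ g) (ι ⁻¹ᵁ W.1)) = ι.ker.ideal W :=
  (ι.ker_apply W).symm

theorem formallySmooth_SA [Smooth g] {W : X.Opens} (hW : IsAffineOpen W) : Algebra.FormallySmooth k (SA g W) := by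
  have h1 : (g.appLE ⊤ W le_top).hom.Smooth :=
    HasRingHomProperty.appLE (P := @Smooth) g inferInstance ⟨⊤, isAffineOpen_top _⟩ ⟨W, hW⟩ le_top
  have h2 : ((Scheme.ΓSpecIso (CommRingCat.of k)).inv).hom.FormallySmooth :=
    RingHom.FormallySmooth.of_bijective (ConcreteCategory.bijective_of_isIso _)
  have h3 : (algebraMap k (SA g W)).FormallySmooth := h2.comp h1.formallySmooth
  rwa [RingHom.formallySmooth_algebraMap] at h3

end Alg

section Sect

variable {k : Type u} [Field k] {X Y : Scheme.{u}} {g : X ⟶ Spec (CommRingCat.of k)} (ι : Y ⟶ X)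
  [IsClosedImmersion ι] [QuasiSeparated g] [QuasiSeparated (ι ≫ g)]
  {DX : DeRhamSh.OmegaCx g} {DY : DeRhamSh.OmegaCx (ι ≫ g)} (MX : Mod g DX) (MY : Mod (ι ≫ g) DY)

/-- The preimage of an affine open. -/
def pre (W : X.affineOpens) : Y.affineOpens := ⟨ι ⁻¹ᵁ W.1, W.2.preimage ι⟩

/-- The restriction of forms. -/
noncomputable def rS (p : ℕ) (W : X.affineOpens) : Γ(DX.term p, W.1) →+ Γ(DY.term p, ι ⁻¹ᵁ W.1) :=
  (MY.E p (pre ι W)).toLinearMap.toAddMonoidHom.comp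
    ((powS (pullA g ι W.1) p).toAddMonoidHom.comp (MX.E p W).symm.toLinearMap.toAddMonoidHom)

theorem rS_apply (p : ℕ) (W : X.affineOpens) (x : Γ(DX.term p, W.1)) :
    rS ι MX MY p W x = MY.E p (pre ι W) (powS (pullA g ι W.1) p ((MX.E p W).symm x)) := rfl

theorem rS_E (p : ℕ) (W : X.affineOpens) (x : ⋀[SA g W.1]^p Ω[SA g W.1⁄k]) :
    rS ι MX MY p W (MX.E p W x) = MY.E p (pre ι W) (powS (pullA g ι W.1) p x) := by
  rw [rS_apply, LinearEquiv.symm_apply_apply]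

theorem rS_res (p : ℕ) (W W' : X.affineOpens) (h : W'.1 ≤ W.1) (x : Γ(DX.term p, W.1)) :
    (DY.term p).presheaf.map (homOfLE (preimage_le ι h)).op (rS ι MX MY p W x) =
      rS ι MX MY p W' ((DX.term p).presheaf.map (homOfLE h).op x) := by
  obtain ⟨x, rfl⟩ := (MX.E p W).surjective x
  rw [rS_E, MX.res p W W' h x, rS_E]
  refine (MY.res p (pre ι W) (pre ι W') (preimage_le ι h) _).trans ?_
  refine congrArg (MY.E p (pre ι W')) ?_
  refine (powS_powS (pullA g ι W.1) (resA (ι ≫ g) (preimage_le ι h)) p x).trans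
    (Eq.trans ?_ (powS_powS (resA g h) (pullA g ι W'.1) p x).symm)
  exact powS_congr (fun a => (pullA_res g ι h a).symm) p x

theorem rS_smul (p : ℕ) (W : X.affineOpens) (s : Γ(X, W.1)) (x : Γ(DX.term p, W.1)) :
    rS ι MX MY p W (s • x) = (ι.app W.1 s) • rS ι MX MY p W x := by
  have h1 : ∀ s : SA g W.1, rS ι MX MY p W (s • x) = (pullA g ι W.1 s : SA (ι ≫ g) (ι ⁻¹ᵁ W.1)) •
      rS ι MX MY p W x := by
    intro s
    rw [rS_apply, rS_apply, map_smul, LinearMap.map_smulₛₗ]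
    exact map_smul (MY.E p (pre ι W)) _ _
  exact h1 s

theorem rS_smul_base (p : ℕ) (W : X.affineOpens) (a : k) (x : Γ(DX.term p, W.1)) :
    rS ι MX MY p W ((secHom g W.1 a) • x) = (secHom (ι ≫ g) (ι ⁻¹ᵁ W.1) a) • rS ι MX MY p W x := by
  rw [rS_smul, app_secHom]

theorem rS_comm (p : ℕ) (W : X.affineOpens) (x : Γ(DX.term p, W.1)) :
    dSec DY (ι ⁻¹ᵁ W.1) p (rS ι MX MY p W x) = rS ι MX MY (p + 1) W (dSec DX W.1 p x) := by
  obtain ⟨x, rfl⟩ := (MX.E p W).surjective x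
  rw [rS_E, MX.comm p W x, rS_E]
  refine (MY.comm p (pre ι W) _).trans ?_
  congr 1
  exact (RingCx.powS_comm (pullA g ι W.1) (MX.isDiff W).1 (MY.isDiff (pre ι W)).1 p x).symm

theorem rS_surjective (p : ℕ) (W : X.affineOpens) : Function.Surjective (rS ι MX MY p W) :=
  (MY.E p (pre ι W)).surjective.comp ((ExtKer.powS_surjective _ (pullA_surjective g ι W.2) p).comp
    (MX.E p W).symm.surjective)

theorem rS_eq_zero_iff (p : ℕ) (W : X.affineOpens) (x : ⋀[SA g W.1]^p Ω[SA g W.1⁄k]) :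
    rS ι MX MY p W (MX.E p W x) = 0 ↔ powS (pullA g ι W.1) p x = 0 := by
  rw [rS_E]
  exact (MY.E p (pre ι W)).map_eq_zero_iff

/-- The filtration by powers of the ideal. -/
noncomputable def LS (p a : ℕ) (W : X.affineOpens) : Submodule Γ(X, W.1) Γ(DX.term p, W.1) :=
  (ι.ker.ideal W) ^ a • (⊤ : Submodule Γ(X, W.1) Γ(DX.term p, W.1))

omit [QuasiSeparated (ι ≫ g)] in
theorem E_mem_iff (p a : ℕ) (W : X.affineOpens) (x : ⋀[SA g W.1]^p Ω[SA g W.1⁄k]) :
    MX.E p W x ∈ LS (DX := DX) ι p a W ↔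
      x ∈ Euler.Fil (RingHom.ker (pullA g ι W.1 : SA g W.1 →+* SA (ι ≫ g) (ι ⁻¹ᵁ W.1))) p a := by
  have h1 : (LS (DX := DX) ι p a W : Submodule Γ(X, W.1) Γ(DX.term p, W.1)) =
      Submodule.map (MX.E p W).toLinearMap
        (Euler.Fil (RingHom.ker (pullA g ι W.1 : SA g W.1 →+* SA (ι ≫ g) (ι ⁻¹ᵁ W.1))) p a) := by
    rw [Euler.Fil, Submodule.map_smul'', Submodule.map_top, LinearEquiv.range, ker_pullA]
    rfl
  constructor
  · intro h
    have h2 : MX.E p W x ∈ Submodule.map (MX.E p W).toLinearMap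
        (Euler.Fil (RingHom.ker (pullA g ι W.1 : SA g W.1 →+* SA (ι ≫ g) (ι ⁻¹ᵁ W.1))) p a) := by
      rw [← h1]; exact h
    obtain ⟨y, hy, hxy⟩ := Submodule.mem_map.1 h2
    rwa [← (MX.E p W).injective hxy]
  · intro h
    have h2 : MX.E p W x ∈ Submodule.map (MX.E p W).toLinearMap
        (Euler.Fil (RingHom.ker (pullA g ι W.1 : SA g W.1 →+* SA (ι ≫ g) (ι ⁻¹ᵁ W.1))) p a) :=
      Submodule.mem_map_of_mem h
    rw [← h1] at h2
    exact h2

omit [IsClosedImmersion ι] [QuasiSeparated (ι ≫ g)] in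
theorem LS_anti (p : ℕ) {a b : ℕ} (h : a ≤ b) (W : X.affineOpens) :
    LS (DX := DX) ι p b W ≤ LS ι p a W :=
  Submodule.smul_mono_left (Ideal.pow_le_pow_right h)

omit [QuasiSeparated (ι ≫ g)] in
include MX in
theorem LS_res (p a : ℕ) (W W' : X.affineOpens) (h : W'.1 ≤ W.1) {x : Γ(DX.term p, W.1)}
    (hx : x ∈ LS (DX := DX) ι p a W) :
    (DX.term p).presheaf.map (homOfLE h).op x ∈ LS (DX := DX) ι p a W' := by
  obtain ⟨x, rfl⟩ := (MX.E p W).surjective x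
  rw [E_mem_iff] at hx
  rw [MX.res p W W' h x, E_mem_iff]
  refine Euler.Fil_induction _ (P := fun x => powS (resA g h) p x ∈ Euler.Fil (RingHom.ker
    (pullA g ι W'.1 : SA g W'.1 →+* SA (ι ≫ g) (ι ⁻¹ᵁ W'.1))) p a) (fun y hy x => ?_) (fun x y hx hy => ?_) hx
  · rw [LinearMap.map_smulₛₗ]
    refine Euler.smul_mem_Fil _ ?_ _
    have h1 := Ideal.mem_map_of_mem (resA g h : SA g W.1 →+* SA g W'.1) hy
    rw [Ideal.map_pow] at h1
    refine Ideal.pow_right_mono ?_ a h1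
    rw [Ideal.map_le_iff_le_comap]
    intro s hs
    rw [Ideal.mem_comap, RingHom.mem_ker]
    have h2 : pullA g ι W.1 s = 0 := hs
    have h3 := pullA_res g ι h s
    rw [h2, map_zero] at h3
    exact h3
  · rw [map_add]; exact Submodule.add_mem _ hx hy

theorem rS_eq_zero_of_mem (p : ℕ) {a : ℕ} (ha : 1 ≤ a) (W : X.affineOpens) {x : Γ(DX.term p, W.1)}
    (hx : x ∈ LS (DX := DX) ι p a W) : rS ι MX MY p W x = 0 := by
  obtain ⟨x, rfl⟩ := (MX.E p W).surjective x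
  rw [E_mem_iff] at hx
  rw [rS_eq_zero_iff]
  exact ExtKer.powS_Fil_one _ p x (Euler.Fil_anti _ ha hx)

section Char

variable [CharZero k]

omit [QuasiSeparated (ι ≫ g)] in
include MX in
theorem LS_d (p m : ℕ) (W : X.affineOpens) {x : Γ(DX.term p, W.1)}
    (hx : x ∈ LS (DX := DX) ι p (m - p) W) : dSec DX W.1 p x ∈ LS (DX := DX) ι (p + 1) (m - (p + 1)) W := by
  obtain ⟨x, rfl⟩ := (MX.E p W).surjective x
  rw [E_mem_iff] at hx
  rw [MX.comm p W x, E_mem_iff]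
  exact RingLef.d_Fil' (MX.isDiff W) _ hx

variable [Smooth g] [Smooth (ι ≫ g)]

theorem lef_zero (N : ℕ) (W : X.affineOpens) {x : Γ(DX.term 0, W.1)} (hx : rS ι MX MY 0 W x = 0)
    (hdx : dSec DX W.1 0 x ∈ LS (DX := DX) ι 1 N W) : x ∈ LS (DX := DX) ι 0 (N + 1) W := by
  obtain ⟨x, rfl⟩ := (MX.E 0 W).surjective x
  rw [rS_eq_zero_iff] at hx
  rw [MX.comm 0 W x, E_mem_iff] at hdx
  rw [E_mem_iff]
  have := formallySmooth_SA g W.2
  have : Algebra.FormallySmooth k (SA (ι ≫ g) (ι ⁻¹ᵁ W.1)) := formallySmooth_SA (ι ≫ g) (pre ι W).2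
  exact RingLef.zero (pullA g ι W.1) (MX.isDiff W) (pullA_surjective g ι W.2) N hx hdx

theorem lef_succ (p N : ℕ) (W : X.affineOpens) {x : Γ(DX.term (p + 1), W.1)} (hx : rS ι MX MY (p + 1) W x = 0)
    (hdx : dSec DX W.1 (p + 1) x ∈ LS (DX := DX) ι (p + 2) N W) :
    ∃ u : Γ(DX.term p, W.1), rS ι MX MY p W u = 0 ∧
      x - dSec DX W.1 p u ∈ LS (DX := DX) ι (p + 1) (N + 1) W := by
  obtain ⟨x, rfl⟩ := (MX.E (p + 1) W).surjective x
  rw [rS_eq_zero_iff] at hx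
  rw [MX.comm (p + 1) W x, E_mem_iff] at hdx
  have := formallySmooth_SA g W.2
  have : Algebra.FormallySmooth k (SA (ι ≫ g) (ι ⁻¹ᵁ W.1)) := formallySmooth_SA (ι ≫ g) (pre ι W).2
  obtain ⟨u, hu, h⟩ := RingLef.succ (pullA g ι W.1) (MX.isDiff W) (pullA_surjective g ι W.2) p N hx hdx
  refine ⟨MX.E p W u, ?_, ?_⟩
  · rw [rS_eq_zero_iff]; exact hu
  · rw [MX.comm p W u, ← map_sub, E_mem_iff]; exact h

end Char

end Sect

end K853.Lef.Restr
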