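import Groth.Agent.DeRhamSh.K853.Lef.CechLef

/-!
# The restriction of forms on total complexes: the kernel is acyclic in low degrees
-/

set_option autoImplicit false

universe w u

open CategoryTheory CategoryTheory.Limits AlgebraicGeometry Opposite TopologicalSpace exteriorPower

namespace K853.Lef.TotLef

open Groth.Agent.Lefpen.H721.OmegaSec Groth.Agent.Lefpen.H721.OmegaPow Groth.Agent.CurvesB.OmegaStalkDict
open Groth.Agent.Sga67.Sec K853.CxAff K853.Lef.Model K853.Lef.Restr K853.Lef.Chase K853.Lef.CechLef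
open Groth.Agent.Ega3B Groth.Agent.Ega3B.CombRes K890.CechHT

variable {k : Type u} [Field k] {X Y : Scheme.{u}} {g : X ⟶ Spec (CommRingCat.of k)} (ι : Y ⟶ X)
  [IsClosedImmersion ι] [QuasiSeparated g] [QuasiSeparated (ι ≫ g)]
  {DX : DeRhamSh.OmegaCx g} {DY : DeRhamSh.OmegaCx (ι ≫ g)} (MX : Mod g DX) (MY : Mod (ι ≫ g) DY)
  (D : Data X.toTopCat) (hW : ∀ n b, IsAffineOpen (X := X) (D.W n b))

section tot

/-- The restriction of forms on total cochains. -/
noncomputable def rT (n : ℕ) : T D DX.K n →+ T (comap ι D) DY.K n :=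
  AddMonoidHom.mk' (fun x p => rC ι MX MY D hW p.1.1 p.1.2 (x p)) fun _ _ =>
    T.ext fun a b _ => map_add (rC ι MX MY D hW a b) _ _

theorem rT_at {n : ℕ} (x : T D DX.K n) (a b : ℕ) (h : a + b = n) :
    (rT ι MX MY D hW n x).at a b h = rC ι MX MY D hW a b (x.at a b h) := rfl

theorem rT_dT (n : ℕ) (x : T D DX.K n) :
    rT ι MX MY D hW (n + 1) (dT D DX.K n x) = dT (comap ι D) DY.K n (rT ι MX MY D hW n x) := by
  refine T.ext fun a b h => ?_
  rw [rT_at, dT_at, dT_at, map_add, Units.smul_def, Units.smul_def, map_zsmul]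
  congr 1
  · cases a with
    | zero => exact map_zero _
    | succ a => exact rC_dh ι MX MY D hW a b _
  · congr 1
    cases b with
    | zero => exact map_zero _
    | succ b => exact rC_dv ι MX MY D hW a b _

theorem rT_surjective (n : ℕ) : Function.Surjective (rT ι MX MY D hW n) := by
  intro y
  choose x hx using fun p : Ix n => rC_surjective ι MX MY D hW p.1.1 p.1.2 (y p)
  exact ⟨x, funext fun p => hx p⟩

theorem rT_scalar (hX : KLinDR.TermwiseLinear (Coh.toGlobal g) DX.K DX.term DX.iso)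
    (hY : KLinDR.TermwiseLinear (Coh.toGlobal (ι ≫ g)) DY.K DY.term DY.iso) (n : ℕ) (c : k) (x : T D DX.K n) :
    rT ι MX MY D hW n (mapT D (KLinDR.scalarN hX c : DX.K ⟶ DX.K) n x) =
      mapT (comap ι D) (KLinDR.scalarN hY c : DY.K ⟶ DY.K) n (rT ι MX MY D hW n x) :=
  T.ext fun a b _ => rC_scalar ι MX MY D hW a b c _

end tot

section subs

/-- the kernel -/
noncomputable def F (a b : ℕ) : AddSubgroup (D.K b (DX.K.X a).obj) := (rC ι MX MY D hW a b).ker

theorem mem_F {a b : ℕ} {x : D.K b (DX.K.X a).obj} : x ∈ F ι MX MY D hW a b ↔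
    ∀ β : D.B b, rS ι MX MY a (WA D hW b β) (toS DX a (D.W b β) (x β)) = 0 := by
  rw [F, AddMonoidHom.mem_ker, funext_iff]
  exact forall_congr' fun β => rK_eq_zero_iff ι MX MY a (WA D hW b β) (x β)

/-- the filtration -/
noncomputable def L (m a b : ℕ) : AddSubgroup (D.K b (DX.K.X a).obj) where
  carrier := {x | ∀ β : D.B b, toS DX a (D.W b β) (x β) ∈ LS (DX := DX) ι a (m - a) (WA D hW b β)}
  add_mem' {x y} hx hy β := by
    change toS DX a (D.W b β) (x β + y β) ∈ _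
    rw [map_add]
    exact Submodule.add_mem _ (hx β) (hy β)
  zero_mem' β := by
    change toS DX a (D.W b β) 0 ∈ _
    rw [map_zero]
    exact Submodule.zero_mem _
  neg_mem' {x} hx β := by
    change toS DX a (D.W b β) (-(x β)) ∈ _
    rw [map_neg]
    exact Submodule.neg_mem _ (hx β)

omit [IsClosedImmersion ι] [QuasiSeparated (ι ≫ g)] in
theorem mem_L {m a b : ℕ} {x : D.K b (DX.K.X a).obj} : x ∈ L (DX := DX) ι D hW m a b ↔
    ∀ β : D.B b, toS DX a (D.W b β) (x β) ∈ LS (DX := DX) ι a (m - a) (WA D hW b β) := Iff.rfl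

omit [IsClosedImmersion ι] [QuasiSeparated (ι ≫ g)] in
theorem L_anti (m m' a b : ℕ) (h : m ≤ m') : L (DX := DX) ι D hW m' a b ≤ L ι D hW m a b := fun x hx β =>
  LS_anti ι a (by omega) (WA D hW b β) (hx β)

omit [QuasiSeparated (ι ≫ g)] in
include MX in
theorem L_v (m a b : ℕ) (x : D.K b (DX.K.X a).obj) (hx : x ∈ L (DX := DX) ι D hW m a b) :
    dv D DX.K a b x ∈ L (DX := DX) ι D hW m a (b + 1) := by
  classical
  intro β
  have h1 : dv D DX.K a b x β = _ := Data.δ_apply D b x β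
  rw [h1]
  have h2 : toS DX a (D.W (b + 1) β) (∑ b', if h : D.W (b + 1) β ≤ D.W b b' then
      D.m b β b' • (DX.K.X a).obj.map (homOfLE h).op (x b') else 0) = ∑ b', toS DX a (D.W (b + 1) β)
        (if h : D.W (b + 1) β ≤ D.W b b' then D.m b β b' • (DX.K.X a).obj.map (homOfLE h).op (x b') else 0) :=
    map_sum _ _ _
  rw [h2]
  refine Submodule.sum_mem _ fun β' _ => ?_
  split_ifs with h
  · have h3 : toS DX a (D.W (b + 1) β) (D.m b β β' • (DX.K.X a).obj.map (homOfLE h).op (x β')) =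
        D.m b β β' • (DX.term a).presheaf.map (homOfLE h).op (toS DX a (D.W b β') (x β')) :=
      (map_zsmul _ _ _).trans (congrArg (D.m b β β' • ·) (toS_res DX a h (x β')))
    rw [h3]
    exact zsmul_mem (LS_res ι MX a (m - a) (WA D hW b β') (WA D hW (b + 1) β) h (hx β')) _
  · rw [map_zero]
    exact Submodule.zero_mem _

theorem F_h (a b : ℕ) (x : D.K b (DX.K.X a).obj) (hx : x ∈ F ι MX MY D hW a b) :
    dh D DX.K a b x ∈ F ι MX MY D hW (a + 1) b := by
  rw [F, AddMonoidHom.mem_ker] at hx ⊢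
  rw [rC_dh, hx, map_zero]

theorem F_v (a b : ℕ) (x : D.K b (DX.K.X a).obj) (hx : x ∈ F ι MX MY D hW a b) :
    dv D DX.K a b x ∈ F ι MX MY D hW a (b + 1) := by
  rw [F, AddMonoidHom.mem_ker] at hx ⊢
  rw [rC_dv, hx, map_zero]

theorem L_le_F (m a b : ℕ) (h : a < m) : L (DX := DX) ι D hW m a b ≤ F ι MX MY D hW a b := fun x hx => by
  rw [mem_F]
  exact fun β => rS_eq_zero_of_mem ι MX MY a (by omega) (WA D hW b β) (hx β)

variable [CharZero k]

omit [QuasiSeparated (ι ≫ g)] in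
include MX in
theorem L_h (m a b : ℕ) (x : D.K b (DX.K.X a).obj) (hx : x ∈ L (DX := DX) ι D hW m a b) :
    dh D DX.K a b x ∈ L (DX := DX) ι D hW m (a + 1) b := fun β => by
  have h1 := toS_d DX a (D.W b β) (x β)
  have h2 := LS_d ι MX a m (WA D hW b β) (hx β)
  change toS DX (a + 1) (D.W b β) ((DX.K.d a (a + 1)).hom.app (op (D.W b β)) (x β)) ∈ _
  rw [h1]
  exact h2

variable [Smooth g] [Smooth (ι ≫ g)]

theorem lef0 (m b : ℕ) (hm : 1 ≤ m) (x : D.K b (DX.K.X 0).obj) (hx : x ∈ F ι MX MY D hW 0 b)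
    (hdx : dh D DX.K 0 b x ∈ L (DX := DX) ι D hW m 1 b) : x ∈ L (DX := DX) ι D hW m 0 b := by
  rw [mem_F] at hx
  intro β
  have h1 := toS_d DX 0 (D.W b β) (x β)
  have h2 : toS DX 1 (D.W b β) ((DX.K.d 0 1).hom.app (op (D.W b β)) (x β)) ∈ _ := hdx β
  obtain ⟨N, rfl⟩ : ∃ N, m = N + 1 := ⟨m - 1, by omega⟩
  rw [h1] at h2
  exact lef_zero ι MX MY N (WA D hW b β) (hx β) h2

theorem lef1 (m a b : ℕ) (hm : a + 2 ≤ m) (x : D.K b (DX.K.X (a + 1)).obj) (hx : x ∈ F ι MX MY D hW (a + 1) b)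
    (hdx : dh D DX.K (a + 1) b x ∈ L (DX := DX) ι D hW m (a + 2) b) :
    ∃ u ∈ F ι MX MY D hW a b, x - dh D DX.K a b u ∈ L (DX := DX) ι D hW m (a + 1) b := by
  rw [mem_F] at hx
  obtain ⟨N, rfl⟩ : ∃ N, m = a + 2 + N := ⟨m - (a + 2), by omega⟩
  have key : ∀ β : D.B b, ∃ u : Γ(DX.term a, D.W b β), rS ι MX MY a (WA D hW b β) u = 0 ∧
      toS DX (a + 1) (D.W b β) (x β) - dSec DX (D.W b β) a u ∈ LS (DX := DX) ι (a + 1) (N + 1) (WA D hW b β) := by
    intro β
    have h1 := toS_d DX (a + 1) (D.W b β) (x β)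
    have h2 : toS DX (a + 2) (D.W b β) ((DX.K.d (a + 1) (a + 2)).hom.app (op (D.W b β)) (x β)) ∈ _ := hdx β
    have h3 : a + 2 + N - (a + 2) = N := by omega
    rw [h1, h3] at h2
    exact lef_succ ι MX MY a N (WA D hW b β) (hx β) h2
  choose u hu hu' using key
  refine ⟨fun β => (toS DX a (D.W b β)).symm (u β), ?_, ?_⟩
  · rw [mem_F]
    intro β
    have h1 : toS DX a (D.W b β) ((toS DX a (D.W b β)).symm (u β)) = u β := AddEquiv.apply_symm_apply _ _
    rw [h1]
    exact hu β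
  · intro β
    have h3 : a + 2 + N - (a + 1) = N + 1 := by omega
    rw [h3]
    have h1 := toS_d DX a (D.W b β) ((toS DX a (D.W b β)).symm (u β))
    rw [AddEquiv.apply_symm_apply] at h1
    change toS DX (a + 1) (D.W b β) (x β - (DX.K.d a (a + 1)).hom.app (op (D.W b β))
      ((toS DX a (D.W b β)).symm (u β))) ∈ _
    rw [map_sub, h1]
    exact hu' β

section vanish

variable (N : ℕ) (hpv : ∀ a b, a + b ≤ N → ∀ m, ∃ m', m ≤ m' ∧ ∀ x ∈ L (DX := DX) ι D hW m' a b,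
  dv D DX.K a b x = 0 → IsRowB (L (DX := DX) ι D hW) m a b x)

include hpv in
theorem vanish_zero (z : T D DX.K 0) (hz : dT D DX.K 0 z = 0) (hz' : rT ι MX MY D hW 0 z = 0) : z = 0 := by
  obtain ⟨m', hm', h⟩ := hpv 0 0 (Nat.zero_le _) 1
  have h1 : z.at 0 0 rfl ∈ F ι MX MY D hW 0 0 := by
    rw [F, AddMonoidHom.mem_ker, ← rT_at, hz']
    rfl
  have h2 : dh D DX.K 0 0 (z.at 0 0 rfl) = 0 := by
    have h3 : (dT D DX.K 0 z).at 1 0 rfl = 0 := by rw [hz]; rfl
    rw [dT_at] at h3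
    have h4 : ver z 1 0 rfl = 0 := rfl
    rw [h4, smul_zero, add_zero] at h3
    exact h3
  have h3 : dv D DX.K 0 0 (z.at 0 0 rfl) = 0 := by
    have h3 : (dT D DX.K 0 z).at 0 1 rfl = 0 := by rw [hz]; rfl
    rw [dT_at] at h3
    have h4 : hor z 0 1 rfl = 0 := rfl
    rw [h4, zero_add] at h3
    have h5 := congrArg (fun t => (((0 + 1 : ℕ) : ℤ)).negOnePow • t) h3
    simp only [smul_zero, smul_smul, Int.units_mul_self, one_smul] at h5
    exact h5
  have h4 : z.at 0 0 rfl ∈ L (DX := DX) ι D hW m' 0 0 := by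
    refine lef0 ι MX MY D hW m' 0 hm' _ h1 ?_
    rw [h2]
    exact AddSubgroup.zero_mem _
  have h5 : z.at 0 0 rfl = 0 := h _ h4 h3
  refine T.ext fun a b hab => ?_
  obtain rfl : a = 0 := by omega
  obtain rfl : b = 0 := by omega
  exact h5

include hpv in
theorem vanish_succ (n : ℕ) (hn : n + 1 ≤ N) (z : T D DX.K (n + 1)) (hz : dT D DX.K (n + 1) z = 0)
    (hz' : rT ι MX MY D hW (n + 1) z = 0) : ∃ y : T D DX.K n, rT ι MX MY D hW n y = 0 ∧ dT D DX.K n y = z := by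
  obtain ⟨m', hm', h⟩ := exists_dT_eq (L (DX := DX) ι D hW) (L_anti ι D hW) (L_h ι MX D hW) (L_v ι MX D hW) n
    (fun a b hab m => hpv a b (by omega) m) (N + 2)
  have h1 : In (F ι MX MY D hW) z := fun a b hab => by
    rw [F, AddMonoidHom.mem_ker, ← rT_at, hz']
    rfl
  obtain ⟨u, hu, hu'⟩ := exists_sub_mem (F ι MX MY D hW) (L (DX := DX) ι D hW m') N (F_h ι MX MY D hW)
    (F_v ι MX MY D hW) (L_v ι MX D hW m') (fun b x => lef0 ι MX MY D hW m' b (by omega) x)
    (fun a b x ha => lef1 ι MX MY D hW m' a b (by omega) x) n hn z h1 (by rw [hz]; exact In.zero)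
  obtain ⟨y, hy, hy'⟩ := h _ hu' (by rw [map_sub, dT_dT, hz, sub_zero])
  refine ⟨u + y, ?_, by rw [map_add, hy']; abel⟩
  refine T.ext fun a b hab => ?_
  rw [rT_at]
  exact (F ι MX MY D hW a b).add_mem (hu a b hab) (L_le_F ι MX MY D hW (N + 2) a b (by omega) (hy a b hab))

end vanish

end subs

end K853.Lef.TotLef
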